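import Cfsg.Agent.H7.Mult3
import Cfsg.Agent.H7.Xs
import Cfsg.Agent.H7.OutG
import Cfsg.Agent.H7.Lee.Co1
import Cfsg.Agent.H7.Li.O82
import Cfsg.Agent.H7.Xs.Co1AN0
import Cfsg.Agent.H7.Xs.Co1AN1
import Cfsg.Agent.H7.Xs.Co1AN2
import Cfsg.Agent.H7.Xs.Co1AN3
import Cfsg.Agent.H7.Xs.Co1AN4
import Cfsg.Agent.H7.Xs.Co1AN5

set_option autoImplicit false
set_option maxRecDepth 100000

universe u

open scoped Pointwise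

namespace CfsgH7.Co1.Xs

set_option Elab.async false

open CfsgH7.Co1

noncomputable def l2 : List Net := [e0, e1, e2, e3, e4, e5, e6, e7, e8, e9, e10, e11, e12, e13, e14, e15, e16, e17, e18, e19, e20, e21, e22]
def U1 : List (List Nat) := [[5,6,5,5,6,5,5,6,5,5,6,5,5,6,5,5,6,5],[4,8,0,2,0,6,1,2,1,8,0,4,8,0,8,1,8,1,4,0,4,8,0,8,1,8,1,4,8,0,2,0,6,1,2,1,8,5,1,5,8,4,1,8,0,5,8,4,0,4,0,4,8,0,8,1,8,1,1,5,8,4,1,8,0,5,8,4,0,4,8,0,2,0,6,1,2,1,8,5,0,8,0,8,1,8,5,1,5,1,5,8,4,1,8,0,5,8,4,0,4,8,0,2,0,6,1,2,1,8,5,0,8,0,8,1,8,5,1,5,1,5,8,4,1,8,0,5,8,4,0,4,8,0,2,0,6,1,2,1,8,5],[10,5,1,1,8,0,8,1,8,0,0,4,10,5,8,2,0,8,1,6,0,8,1,6,2,8,1,1,8,0,8,1,8,0,0,4,11,5,1,1,8,0,8,1,8,0,0,4,10,5,1,1,8,0,8,1,8,0,0,8,2,0,8,1,6,0,8,1,6,2,8,1,1,8,0,8,1,8,0,0,4,11,5,8,2,0,8,1,6,0,8,1,6,2,8,4,10,5,8,2,6,0,8,1,6,0,8,1,2,8,1,1,8,0,8,1,8,0,0,4]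,[5,1,1,8,0,8,1,8,0,0,4,11,5,1,1,8,0,8,1,8,0,0,4,11,11,5,8,2,6,0,8,1,6,0,8,1,2,8,1,1,8,0,8,1,8,0,0,4,11,5,1,1,8,0,8,1,8,0,0,8,2,6,0,8,1,6,0,8,1,2,8,4,11,11],[5,12,1,10,0,5,12,14,12,10,1,8,1,2,6,8,2,8,0,0,5,6,1,5,8,4,1,8,0,5,8,4,0,6,4,1,1,8,2,8,6,2,0,8,0,0,8,0,8,1,8,4,6,4,4,6,4,1,5,14,4,0,4,4,6,4,4,6,4,1,5,5,1,1,8,0,8,1,8,0,0,4,11,14,5,1,1,8,0,8,1,8,0,0,4,14,10,5,1,1,8,0,8,1,8,0,0,4,14,12,14,12],[2,1,6,1,4,4,8,2,0,8,2,8,0,6,12,14,12,6,4,1,1,8,2,8,6,2,0,8,5,8,4,1,8,0,5,8,4,0,6,4,1,1,8,2,8,6,2,0,8,0,4,8,0,2,0,6,1,2,1,8,0,4,4,6,4,4,6,4,1,5,12,0,8,0,8,1,8,4,6,4,4,6,4,1,5,0,8,0,8,1,8,5,1,5,14,5,1,1,8,0,8,1,8,0,0,4,10,14,5,8,2,6,0,8,1,6,0,8,1,2,8,4,10,14,12,14,12],[6,11,6,4,0,4,4,6,4,4,6,4,1,5,12,5,8,2,6,0,8,1,6,0,8,1,2,8,4,4,8,0,2,0,6,1,2,1,8,5,6,4,1,1,8,2,8,6,2,0,8,0,5,8,2,6,0,8,1,6,0,8,1,2,8,4,4,0,4,4,6,4,4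,6,4,1,5,11,4,0,4,4,6,4,4,6,4,1,5,5,1,1,8,0,8,1,8,0,0,4,11,5,1,1,8,0,8,1,8,0,0,4,11,5,1,1,8,0,8,1,8,0,0,4,10,12,14,12],[4,6,12,6,8,0,2,0,6,1,2,1,8,5,6,1,8,2,8,1,2,8,5,5,0,6,0,2,8,6,4,1,1,8,2,8,6,2,0,8,0,8,1,5,8,4,1,8,0,5,8,4,0,4,8,0,2,0,6,1,2,1,8,5,1,5,8,4,1,8,0,5,8,4,0,14,12,14,12,0,8,0,8,1,8,5,1,5,12,14,12,5,1,1,8,0,8,1,8,0,0,8,2,6,0,8,1,6,0,8,1,2,8,4,12,5,8,2,6,0,8,1,6,0,8,1,2,8,4,12,14,12],[6,2,8,6,12,1,5,1,1,8,0,8,1,8,0,0,4,12,4,0,4,4,6,4,4,6,4,1,5,8,6,4,1,1,8,2,8,6,2,0,8,5,8,4,1,8,0,5,8,4,0,12,14,10,0,8,0,8,1,8,5,1,5,0,8,0,8,1,8,5,1,5,5,1,1,8,0,8,1,8,0,0,4,11,5,1,1,8,0,8,1,8,0,0,4,14,12,14,12,14,10,14,12,14],[5,14,10,4,2,0,5,8,2,6,0,8,1,6,0,8,1,2,8,4,6,1,8,2,8,1,2,8,5,5,0,6,0,2,4,0,4,8,0,8,1,8,1,1,8,1,2,6,8,2,8,0,0,5,6,0,8,0,8,1,8,5,1,5,12,4,8,0,2,0,6,1,2,1,8,5,0,8,0,8,1,8,5,1,5,0,8,0,8,1,8,5,1,5,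14,5,1,1,8,0,8,1,8,0,0,4,10,14,5,1,1,8,0,8,1,8,0,0,4,14,12],[2,6,4,1,1,2,10,6,4,1,1,8,2,8,6,2,0,8,5,8,4,1,8,0,5,8,4,0,6,4,1,1,8,2,8,6,2,0,8,0,6,4,1,1,8,2,8,6,2,0,8,5,8,4,1,8,0,5,8,4,0,14,5,8,2,6,0,8,1,6,0,8,1,2,8,1,1,8,0,8,1,8,0,0,4,1,5,8,4,1,8,0,5,8,4,0,0,8,0,8,1,8,5,1,5,11,12,14,12,5,1,1,8,0,8,1,8,0,0,4,12,5,1,1,8,0,8,1,8,0,0,4,12,14],[6,10,10,1,14,0,5,8,2,6,0,8,1,6,0,8,1,2,8,4,2,1,6,1,4,4,8,2,0,8,2,8,0,6,12,14,12,6,1,8,2,8,1,2,8,5,5,0,6,0,2,8,0,8,0,8,1,8,5,1,5,1,5,8,4,1,8,0,5,8,4,0,10,1,5,8,4,1,8,0,5,8,4,0,10,12,14,12,5,8,2,6,0,8,1,6,0,8,1,2,8,4,10,5,1,1,8,0,8,1,8,0,0,4,14,12,14,12],[12,6,5,2,6,0,12,14,12,5,8,2,6,0,8,1,6,0,8,1,2,8,4,10,1,8,1,2,6,8,2,8,0,0,5,6,8,5,1,1,8,0,8,1,8,0,0,4,1,5,8,4,1,8,0,5,8,4,0,14,11,0,8,0,8,1,8,5,1,5,11,5,1,1,8,0,8,1,8,0,0,4,12,14,12,5,8,2,6,0,8,1,6,0,8,1,2,8,1,1,8,0,8,1,8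,0,0,4,10,12,14,12,14,12],[4,6,12,6,5,11,4,8,0,2,0,6,1,2,1,8,5,1,8,1,2,6,8,2,8,0,0,5,1,8,2,8,1,2,8,5,5,0,6,0,2,8,11,4,8,0,2,0,6,1,2,1,8,0,4,4,6,4,4,6,4,1,5,12,1,5,8,4,1,8,0,5,8,4,0,0,8,0,8,1,8,5,1,5,5,1,1,8,0,8,1,8,0,0,4,12,5,8,2,6,0,8,1,6,0,8,1,2,8,1,1,8,0,8,1,8,0,0,4,14,10,14,12,14],[10,2,1,6,1,4,4,8,2,0,8,2,8,0,6,10,6,4,1,1,8,2,8,6,2,0,8,0,8,4,0,4,4,6,4,4,6,4,4,8,0,8,1,8,1,4,8,0,2,0,6,1,2,1,8,5,12,14,12,4,0,4,8,0,8,1,8,1,5,8,2,6,0,8,1,6,0,8,1,2,8,4,12,14,12,5,1,1,8,0,8,1,8,0,0,4,11,14],[6,10,10,1,14,8,1,2,6,8,2,8,0,0,5,6,2,1,6,1,4,4,8,2,0,8,2,8,0,6,1,5,8,4,1,8,0,5,8,4,0,6,4,1,1,8,2,8,6,2,0,8,5,8,4,1,8,0,5,8,4,0,4,8,0,2,0,6,1,2,1,8,0,4,8,0,8,1,8,1,4,0,4,4,6,4,4,6,4,1,5,5,1,1,8,0,8,1,8,0,0,8,2,6,0,8,1,6,0,8,1,2,8,1,1,8,0,8,1,8,0,0,4,10,12,14,12,11,14,12,14,12,14,12],[10,1,11,5,14,5,0,0,8,0,8,1,8,5,1,5,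1,5,8,4,1,8,0,5,8,4,0,6,1,8,2,8,1,2,8,5,5,0,6,0,2,1,8,1,2,6,8,2,8,0,0,5,6,8,0,8,0,8,1,8,5,1,5,1,5,8,4,1,8,0,5,8,4,0,10,5,1,1,8,0,8,1,8,0,0,4,4,0,4,4,6,4,4,6,4,1,5,5,1,1,8,0,8,1,8,0,0,4,11,14,5,1,1,8,0,8,1,8,0,0,4,10,14],[0,20,1,8,24,0,20,1,24,0,20,1,20,0,26,20,1,20,0,26,1,24,0,26,20,1,20,0,26,1,24,0,20,1,8],[36,5,8,4,36,38,40,20,41,39,39,35,6,34,38,36,5,8,4,36,24,38,40,20,41,39],[38,36,38,14,18,14,38,40,18,16,20,41,39,24,38,36,38,14,18,14],[41,28,24,16,40,47,32,12,24,12,33,46,38,40,18,41,39,41,33,22,32,40],[32,12,24,12,33,35,40,26,22,41,34,47,41,16,24,28,40,16,41,6,8,18,40,47],[32,12,24,12,33,35,40,26,22,41,34,47,35,40,22,26,41,34,20,46,16,41,6,18,40,18,41,28,24,16,40,35,40,22,26,41,34,44]]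
noncomputable abbrev l1 : List Net := l ++ l2
theorem ag0 : band (lall (fun a => Nat.blt a (2 * (l.length + 0))) (wordAt U1 0))
    (agreeS l1 l1 98280 17 (wordAt U1 0) [2 * (l.length + 0)]) = true := by decide +kernel
theorem ag1 : band (lall (fun a => Nat.blt a (2 * (l.length + 1))) (wordAt U1 1))
    (agreeS l1 l1 98280 17 (wordAt U1 1) [2 * (l.length + 1)]) = true := by decide +kernel
theorem ag2 : band (lall (fun a => Nat.blt a (2 * (l.length + 2))) (wordAt U1 2))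
    (agreeS l1 l1 98280 17 (wordAt U1 2) [2 * (l.length + 2)]) = true := by decide +kernel
theorem ag3 : band (lall (fun a => Nat.blt a (2 * (l.length + 3))) (wordAt U1 3))
    (agreeS l1 l1 98280 17 (wordAt U1 3) [2 * (l.length + 3)]) = true := by decide +kernel
theorem ag4 : band (lall (fun a => Nat.blt a (2 * (l.length + 4))) (wordAt U1 4))
    (agreeS l1 l1 98280 17 (wordAt U1 4) [2 * (l.length + 4)]) = true := by decide +kernel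
theorem ag5 : band (lall (fun a => Nat.blt a (2 * (l.length + 5))) (wordAt U1 5))
    (agreeS l1 l1 98280 17 (wordAt U1 5) [2 * (l.length + 5)]) = true := by decide +kernel
theorem ag6 : band (lall (fun a => Nat.blt a (2 * (l.length + 6))) (wordAt U1 6))
    (agreeS l1 l1 98280 17 (wordAt U1 6) [2 * (l.length + 6)]) = true := by decide +kernel
theorem ag7 : band (lall (fun a => Nat.blt a (2 * (l.length + 7))) (wordAt U1 7))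
    (agreeS l1 l1 98280 17 (wordAt U1 7) [2 * (l.length + 7)]) = true := by decide +kernel
theorem ag8 : band (lall (fun a => Nat.blt a (2 * (l.length + 8))) (wordAt U1 8))
    (agreeS l1 l1 98280 17 (wordAt U1 8) [2 * (l.length + 8)]) = true := by decide +kernel
theorem ag9 : band (lall (fun a => Nat.blt a (2 * (l.length + 9))) (wordAt U1 9))
    (agreeS l1 l1 98280 17 (wordAt U1 9) [2 * (l.length + 9)]) = true := by decide +kernel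
theorem ag10 : band (lall (fun a => Nat.blt a (2 * (l.length + 10))) (wordAt U1 10))
    (agreeS l1 l1 98280 17 (wordAt U1 10) [2 * (l.length + 10)]) = true := by decide +kernel
theorem ag11 : band (lall (fun a => Nat.blt a (2 * (l.length + 11))) (wordAt U1 11))
    (agreeS l1 l1 98280 17 (wordAt U1 11) [2 * (l.length + 11)]) = true := by decide +kernel
theorem ag12 : band (lall (fun a => Nat.blt a (2 * (l.length + 12))) (wordAt U1 12))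
    (agreeS l1 l1 98280 17 (wordAt U1 12) [2 * (l.length + 12)]) = true := by decide +kernel
theorem ag13 : band (lall (fun a => Nat.blt a (2 * (l.length + 13))) (wordAt U1 13))
    (agreeS l1 l1 98280 17 (wordAt U1 13) [2 * (l.length + 13)]) = true := by decide +kernel
theorem ag14 : band (lall (fun a => Nat.blt a (2 * (l.length + 14))) (wordAt U1 14))
    (agreeS l1 l1 98280 17 (wordAt U1 14) [2 * (l.length + 14)]) = true := by decide +kernel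
theorem ag15 : band (lall (fun a => Nat.blt a (2 * (l.length + 15))) (wordAt U1 15))
    (agreeS l1 l1 98280 17 (wordAt U1 15) [2 * (l.length + 15)]) = true := by decide +kernel
theorem ag16 : band (lall (fun a => Nat.blt a (2 * (l.length + 16))) (wordAt U1 16))
    (agreeS l1 l1 98280 17 (wordAt U1 16) [2 * (l.length + 16)]) = true := by decide +kernel
theorem ag17 : band (lall (fun a => Nat.blt a (2 * (l.length + 17))) (wordAt U1 17))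
    (agreeS l1 l1 98280 17 (wordAt U1 17) [2 * (l.length + 17)]) = true := by decide +kernel
theorem ag18 : band (lall (fun a => Nat.blt a (2 * (l.length + 18))) (wordAt U1 18))
    (agreeS l1 l1 98280 17 (wordAt U1 18) [2 * (l.length + 18)]) = true := by decide +kernel
theorem ag19 : band (lall (fun a => Nat.blt a (2 * (l.length + 19))) (wordAt U1 19))
    (agreeS l1 l1 98280 17 (wordAt U1 19) [2 * (l.length + 19)]) = true := by decide +kernel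
theorem ag20 : band (lall (fun a => Nat.blt a (2 * (l.length + 20))) (wordAt U1 20))
    (agreeS l1 l1 98280 17 (wordAt U1 20) [2 * (l.length + 20)]) = true := by decide +kernel
theorem ag21 : band (lall (fun a => Nat.blt a (2 * (l.length + 21))) (wordAt U1 21))
    (agreeS l1 l1 98280 17 (wordAt U1 21) [2 * (l.length + 21)]) = true := by decide +kernel
theorem ag22 : band (lall (fun a => Nat.blt a (2 * (l.length + 22))) (wordAt U1 22))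
    (agreeS l1 l1 98280 17 (wordAt U1 22) [2 * (l.length + 22)]) = true := by decide +kernel
theorem ex1 : ∃ g' : Nat → G0, Md (finPt 98280) 98280 g' l1 4 4157776806543360000 bs :=
  M0.slp 17 l2 U1 (by decide +kernel) (show ∀ j < 23, _ from by
  intro j hj
  interval_cases j
  · exact ag0
  · exact ag1
  · exact ag2
  · exact ag3
  · exact ag4
  · exact ag5
  · exact ag6
  · exact ag7
  · exact ag8
  · exact ag9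
  · exact ag10
  · exact ag11
  · exact ag12
  · exact ag13
  · exact ag14
  · exact ag15
  · exact ag16
  · exact ag17
  · exact ag18
  · exact ag19
  · exact ag20
  · exact ag21
  · exact ag22)
noncomputable def g1 : Nat → G0 := ex1.choose
theorem M1 : Md (finPt 98280) 98280 g1 l1 4 4157776806543360000 bs := ex1.choose_spec

end CfsgH7.Co1.Xs

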