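import Cfsg.Agent.H7.Mult3
import Cfsg.Agent.H7.Cls
import Cfsg.Agent.H7.Ico.Rep

set_option autoImplicit false
set_option maxRecDepth 100000

universe u

open scoped Pointwise

namespace CfsgH7.G24.Xp

open CfsgH7.G24

theorem hs : lall (fun w => fixesP l w bs) (J2m.Rf.map (substW [[0],[2],[4]])) = true := by decide +kernel
variable {G : Type u} [Group G] {Ω : Type*} [MulAction G Ω] {pt : Nat → Ω} {g : Nat → G} (M : Md pt 416 g l 4 251596800 bs)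
include M

theorem hm : Mdl (genW g [[0],[2],[4]]) 3 J2m.Rf 604800 := M.genMdl (V := [[0],[2],[4]]) J2m.pr J2m.mdl0 J2m.simple hs 0 (by decide +kernel)
theorem hK : genW g [[0],[2],[4]] = MulAction.stabilizer G (pt 279) := M.stab ⟨279, [3,0,1,2,3,0,1,2,3,0,1,2,0,3], 416⟩ 9 604800 (by decide +kernel) (hm M).2.1.ge
theorem h0 : IsCoatom (MulAction.stabilizer G (pt 279)) := (M.rep.maxIn' M.inj M.gen ⟨279, [3,0,1,2,3,0,1,2,3,0,1,2,0,3], 416⟩ 9 rfl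
  (mem_inf' (mem_top' _) (M.rep.mem_stab (W := [[0],[2],[4]]) (by decide +kernel))) [⟨6, [6], [0,1,2,0,1,0,2,0,1,0,2,0,0], [0,1,2,3,0,1,2,3,0,1,2,3,1,0]⟩,
  ⟨339, [6,0,6], [0,1,2,0,1,0,2,0,1,2,0,1,0], [0,1,2,3,1,2,1,3,2,1,2,1,3,0,2,1,1,1]⟩] (by decide +kernel)).coatom
theorem m0 : MaxIn (MulAction.stabilizer G (pt 279) ⊓ MulAction.stabilizer G (pt 0)) (MulAction.stabilizer G (pt 279)) := M.rep.maxIn' M.inj (hK M) ⟨0, [0,1,2,0,1,0,2,1,0,2,0,0], 100⟩ 9 rfl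
  (mem_inf' (M.rep.mem_stab (W := [[1,2,0],[0,3,1,3],[0,3,0,4,0]]) (by decide +kernel)) (M.rep.mem_stab (by decide +kernel))) [⟨145, [0], [0,1,0,2,1,0,2,1,0,1], [0,0,0,0,1,0,0,0,0,0,3,0,0,1,0,0,3]⟩,
  ⟨260, [2], [0,2,2,1,0,1,0,2,1], [0,0,0,1,0,0,0,3,0,0,0,1,0,0,0,3]⟩] (by decide +kernel)
theorem m1 : MaxIn (MulAction.stabilizer G (pt 279) ⊓ MulAction.stabilizer G (pt 4)) (MulAction.stabilizer G (pt 279)) := M.rep.maxIn' M.inj (hK M) ⟨4, [0,1,2,0,1,0,2,0,1,0,2,1,0,0], 315⟩ 9 rfl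
  (mem_inf' (M.rep.mem_stab (W := [[1,4,0],[1,1,4,0,0],[1,1,1,4,1,4],[2,4,1,3,0,4]]) (by decide +kernel)) (M.rep.mem_stab (by decide +kernel))) [⟨5, [2,2], [0,1,3,0], [0,1,0,2,0,1,4,0,1,0,2,0,1,0,3,0,1,0]⟩,
  ⟨138, [2,1,1], [0,1,0,2,0,3,0,3,1], [0,0,1,0,2,0,1,0,0,1,0,2,1,0,0]⟩,
  ⟨284, [4,1], [0,1,0,3,0,1,3,1], [0,0,1,0,0,1,0,0,1,0,0,1,0,0,1,0,0,0,1]⟩,
  ⟨358, [2], [0,1,0,2,0,1,3,0,1], [0,0,0,1,0,0,0,1,0,0,0,1,0,0,0,2,0,0,0,1,0,0,2]⟩,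
  ⟨247, [0], [1,0,3,0,1,2,0,1,3,0,1,0,1], [0,0,0,0,1,0,0,0,4,0,0,0,1,0,0,0,0,0,0]⟩] (by decide +kernel)
theorem xp : ∃ H : Subgroup G, IsCoatom H ∧ Cfsg.Spor.IsoJ2 H ∧ ∀ x : G, x ∉ H → IsCoatom ((H ⊓ H.map (MulAut.conj x).toMonoidHom).subgroupOf H) :=
  ⟨_, (h0 M), (hK M) ▸ Mdl.iso2 J2m.pr J2m.pr J2m.mdl0 (hm M) Ico.mdl, M.xprim (by norm_num) (hK M) [⟨0, [0,1,2,0,1,0,2,1,0,2,0,0], 100⟩, ⟨4, [0,1,2,0,1,0,2,0,1,0,2,1,0,0], 315⟩] 9 (by decide +kernel) (by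
    simp only [List.forall_mem_cons]; exact ⟨(m0 M), (m1 M), by simp⟩)⟩

end CfsgH7.G24.Xp

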