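import Cfsg.Agent.H7.Mult3
import Cfsg.Agent.H7.Cls
import Cfsg.Agent.H7.Li.A5
import Cfsg.Agent.H7.Mu.J2

set_option autoImplicit false
set_option maxRecDepth 100000

universe u

open scoped Pointwise

namespace CfsgH7.J2m.Xs

open CfsgH7.J2m

variable {G : Type u} [Group G] {Ω : Type*} [MulAction G Ω] {pt : Nat → Ω} {g : Nat → G} (M : Md pt 100 g l 3 604800 bs)
include M

def xS : List (List Nat) := [[1,3,0,4,1,1,4,0,4,0],[2,0,4,1,1,4,0,2,2,4],[4,3,1,1,2,4,1,1,3,4],[0,4,0,3,1],[0,2,1,4,2,1,4,1]]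
theorem xP : Pc (fun j => wprod g (wordAt xS j)) 2 xS.length :=
  M.pc [[8],[8],[8],[8],[]] [[], [[2,8]], [[4],[4,8]], [[6,8],[6,8],[6]], [[8],[8],[8],[8]]] (by decide +kernel) (M.ge xS [⟨0, [[0],[2],[4]], [0,1,2,0,0], 16⟩,
  ⟨1, [[0,2,4,6]], [0], 2⟩] 7 (by decide +kernel))
def xV : List (List Nat) := [[0,4,0,2,0,2,2,0,2,1,1,4],[2,0,4,0,0,3,0,2,4,1,3]]
noncomputable abbrev xz : List Nat := substW xS [8]
def xaC : List Lvl := [⟨92, [[0],[2],[4]], [0,2,0,1,0,2,0,1,0,1,2,0,2], 100⟩,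
  ⟨36, [[2],[1,1,1,4]], [0,0,0,1,0,0,0,1,0,0,0,1,0,1], 63⟩,
  ⟨19, [[3,1,1,1,4],[1,3,0,0,0,4,0]], [0,1,0], 6⟩,
  ⟨56, [[3,1,3,4,1,4],[0,0,4,0,4,0,2,4]], [0,1], 4⟩,
  ⟨74, [[2,2,1,3,4,1,2,4]], [0], 2⟩,
  ⟨4, [[1,3,4,1,3,4]], [0], 2⟩]
def xaM : List (List Nat) := [[],
  [0x4004000000140000880000],
  [0x82000000100004000000000],
  [0x4000000100000000000],
  [0x10000000010],
  []]
def xaZ : List Nat := [0xfffffffffffffffffffffffff]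
theorem xaL : LvOk G pt 100 [] (mkLV xaC xaM) := M.lvOk xaC 7 xaM (by decide +kernel) (by decide +kernel)
noncomputable def xaT : Bt := (.br 0 [[0],[2],[4],[6],[8],[12]] [0,1,2,3,4,5,0] (Bt.ofL [(92, [], (.step 0 0 [] (.br 0 [[9,2,0],[1,1,2,0,0]] [0,0,1,0] (Bt.ofL [(19, [], (.br 0 [[1,1,2,0,0]] [0] (Bt.ofL [(56, [], (.br 0 [] [] (Bt.ofL [(74, [], (.br 0 [[11,8]] [0] (Bt.ofL [(4, [], (.leaf 0))]))),
 (44, [2,2,1,3,4,1,2,4], (.br 0 [] [] .nil))])))])))]))))]))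
theorem xC : Subgroup.centralizer {z | ∃ w ∈ [xz], wprod g w = z} = genW g (xV ++ xS) :=
  M.cen (xaL M) _ [[0]] _ 1 7 xaZ xaT (by decide +kernel) (by decide +kernel)
def xbC : List Lvl := [⟨40, [[0],[2],[4]], [0,1,2,0,1,2,0,1,0,1,2], 100⟩,
  ⟨4, [[0,2,2,1],[1,4,0,4],[0,3,1,4,1]], [0,1,2,1,0,2,1,2,1,0], 63⟩,
  ⟨74, [[0,2,1,4,1],[1,2,1,2,2,1,3],[1,2,1,1,4,1,1,3]], [0,1,2,1], 12⟩,
  ⟨14, [[1,1,2,0,4,0,0]], [0], 2⟩,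
  ⟨23, [[0,3,1,2,2,0,2,1]], [0], 2⟩,
  ⟨0, [[0,2,1,3,4,1,4,1]], [0], 2⟩]
def xbM : List (List Nat) := [[],
  [0xa00040042000c0e00800800],
  [0x84000],
  [0x400800000],
  [0x100000001],
  [0x10000000000000000000000, 0x40000000000000000, 0x8, 0x100000]]
def xbZ : List Nat := [0xfffffffffffffffffffffffff]
theorem xbL : LvOk G pt 100 [] (mkLV xbC xbM) := M.lvOk xbC 7 xbM (by decide +kernel) (by decide +kernel)
noncomputable def xbT : Bt := (.br 0 [] [] (Bt.ofL [(40, [], (.step 0 0 [] (.br 0 [] [] (Bt.ofL [(74, [], (.br 0 [] [] (Bt.ofL [(14, [], (.br 0 [] [] (Bt.ofL [(23, [], (.br 0 [[0]] [0] (Bt.ofL [(0, [], (.leaf 0))]))),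
 (34, [0,3,1,2,2,0,2,1], (.br 0 [[0]] [0] (Bt.deads [[55,0,3,0]] .nil)))]))),
 (19, [1,1,2,0,4,0,0], (.br 0 [] [] (Bt.ofL [(34, [], (.br 0 [[0]] [0] (Bt.deads [[10,0,3,0]] .nil))),
 (23, [0,3,1,2,2,0,2,1], (.br 0 [[0]] [0] (Bt.deads [[0,0,1,1]] .nil)))])))]))),
 (11, [0,2,1,4,1], (.br 0 [] [] (Bt.ofL [(19, [], (.br 0 [] [] (Bt.ofL [(34, [], (.br 0 [[0]] [0] (Bt.deads [[88,0,1,1]] .nil))),
 (23, [0,3,1,2,2,0,2,1], (.br 0 [[0]] [0] (Bt.deads [[27,0,1,1]] .nil)))]))),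
 (14, [1,1,2,0,4,0,0], (.br 0 [] [] (Bt.ofL [(23, [], (.br 0 [[0]] [0] (Bt.deads [[66,0,3,0]] .nil))),
 (34, [0,3,1,2,2,0,2,1], (.br 0 [[0]] [0] (Bt.deads [[88,0,0,2]] .nil)))])))])))])))),
 (4, [3,1,4,2], (.step 0 0 [0,4,0,3,1,1,4,0,4] (.br 0 [] [] (Bt.ofL [(74, [], (.br 0 [] [] (Bt.ofL [(19, [], (.br 0 [] [] (Bt.ofL [(23, [], (.br 0 [[0]] [0] (Bt.deads [[65,0,0,2]] .nil))),
 (34, [0,3,1,2,2,0,2,1], (.br 0 [[0]] [0] (Bt.deads [[15,0,0,2]] .nil)))]))),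
 (14, [1,1,2,0,4,0,0], (.br 0 [] [] (Bt.ofL [(34, [], (.br 0 [[0]] [0] (Bt.deads [[94,0,0,2]] .nil))),
 (23, [0,3,1,2,2,0,2,1], (.br 0 [[0]] [0] (Bt.deads [[65,0,0,2]] .nil)))])))]))),
 (11, [0,2,1,4,1], (.br 0 [] [] (Bt.ofL [(14, [], (.br 0 [] [] (Bt.ofL [(34, [], (.br 0 [[0]] [0] (Bt.deads [[20,0,2,3]] .nil))),
 (23, [0,3,1,2,2,0,2,1], (.br 0 [[0]] [0] (Bt.deads [[3,0,2,3]] .nil)))]))),
 (19, [1,1,2,0,4,0,0], (.br 0 [] [] (Bt.ofL [(23, [], (.br 0 [[0]] [0] (Bt.deads [[59,0,1,1]] .nil))),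
 (34, [0,3,1,2,2,0,2,1], (.br 0 [[0]] [0] (Bt.deads [[20,0,1,1]] .nil)))])))])))]))))]))
theorem xD : Subgroup.centralizer {z | ∃ w ∈ xS, wprod g w = z} = genW g [xz] :=
  M.cen (xbL M) _ [[0],[2],[4],[6],[8]] _ 5 7 xbZ xbT (by decide +kernel) (by decide +kernel)
theorem xz2 : orderOf (wprod g xz) = 2 := M.ordN _ (by decide +kernel)
theorem xX : XsC (genW g xS) (Subgroup.centralizer {wprod g xz}) 5 2 A5m.Rf 60 :=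
  M.xs (V := xV) A5m.pr A5m.mdl0 A5m.simple (xP M) [8] (xD M) 0 5 (by norm_num [xS]) [[0,2,4,8],[0,8],[6,8],[0,2],[8],[4,8],[2],[0,8],[2,6,8],[8]] [[0,4,8],[],[],[]]
    (by decide +kernel) (by decide +kernel) (by decide +kernel) (cen_one.symm.trans (xC M))

end CfsgH7.J2m.Xs

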