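import Cfsg.Agent.H7.Mult3
import Cfsg.Agent.H7.Cls
import Cfsg.Agent.H7.Xs.K21
import Cfsg.Agent.S0242

set_option autoImplicit false
set_option maxRecDepth 100000

universe u

open scoped Pointwise

namespace CfsgH7.L52

noncomputable def n0 : Net := (Net.cons (nat_lit 16) (nat_lit 0x4000) (Net.cons (nat_lit 8) (nat_lit 0x400000) (Net.cons (nat_lit 4) (nat_lit 0xc0d0000) (Net.cons (nat_lit 2) (nat_lit 0x2310212) (Net.cons (nat_lit 1) (nat_lit 0x44000004) (Net.cons (nat_lit 2) (nat_lit 0x2000002) (Net.cons (nat_lit 4) (nat_lit 0xc080000) (Net.cons (nat_lit 8) (nat_lit 0x400000) (Net.cons (nat_lit 16) (nat_lit 0x4000) Net.nil)))))))))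

noncomputable def n1 : Net := (Net.cons (nat_lit 16) (nat_lit 0x4214) (Net.cons (nat_lit 8) (nat_lit 0x820005) (Net.cons (nat_lit 4) (nat_lit 0x7040401) (Net.cons (nat_lit 2) (nat_lit 0x22122021) (Net.cons (nat_lit 1) (nat_lit 0x55145411) (Net.cons (nat_lit 2) (nat_lit 0x202) (Net.cons (nat_lit 4) (nat_lit 0x4060c) (Net.cons (nat_lit 8) (nat_lit 0xb00040) (Net.cons (nat_lit 16) (nat_lit 0x6844) Net.nil)))))))))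

noncomputable def l : List Net := [n0, n1]
def bs : List Nat := [8,5,3,0,1]
def Ms : List (List (List Nat)) := [[[1,1,0,0,0],[0,1,0,0,0],[0,0,1,0,0],[0,0,0,1,0],[0,0,0,0,1]],
  [[1,1,0,0,0],[0,1,0,0,0],[0,0,1,0,0],[0,0,0,1,0],[0,0,0,0,1]],
  [[0,0,0,0,1],[1,0,0,0,0],[0,1,0,0,0],[0,0,1,0,0],[0,0,0,1,0]],
  [[0,1,0,0,0],[0,0,1,0,0],[0,0,0,1,0],[0,0,0,0,1],[1,0,0,0,0]]]
theorem hM : (arP 2).mOk 5 Ms = true := by decide +kernel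
abbrev G0 : Type := Matrix.SpecialLinearGroup (Fin 5) (ZMod 2)
theorem K2 : (arP 2).Ok (Nat.cast : Nat → ZMod 2) := arP_ok 2 (by norm_num)
noncomputable abbrev b : Nat → G0 := pick (Cfsg.slToMat 5 (ZMod 2)) Nat.cast Fin.val Ms
theorem mo : MatOf (Cfsg.slToMat 5 (ZMod 2)) Nat.cast Fin.val b Ms (lets [0,1]) :=
  K2.pick (ixFin 5) hM _ (K2.hasSL (ixFin 5) hM (q := 2) (by simp) [0,1] 10 (by decide +kernel)) (by decide +kernel)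
noncomputable abbrev g0 : Nat → G0 := fun k => wprod b (wordAt [[0],[2]] k)
noncomputable abbrev pt : Nat → Vc (Cfsg.slToMat 5 (ZMod 2)) := vpt Nat.cast Fin.val [[1506781253],[243092054],[868440792],[1546378912],[595588352]]
theorem M0 : Md pt 31 g0 l 2 9999360 bs :=
  have h := K2.repV (ixFin 5) hM mo [[1506781253],[243092054],[868440792],[1546378912],[595588352]] [[0],[2]] [[0],[2]] [1,1,1,1,0,1,1,1,1,0,1,0,1,1,1,0,1,1,1,1,0] 0 (l := l) (n := 31) (by decide +kernel) (by decide +kernel)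
  Md.of h.1 h.2 ((one_mul _).symm.trans ((Cfsg.Agent.S0242.result (F := ZMod 2) (q := 2) (ZMod.card 2) 5 (by norm_num)).trans
    (by decide +kernel))) 2 [⟨1, [[0],[2]], [0,1,1,1,1,0,1,0,1,1,1,0,1,1,1,1,0], 31⟩,
  ⟨0, [[3,0,2],[3,0,3,0,2,2],[2,2,0,2,2,0,2],[0,2,0,3,0,3,0,2],[2,0,3,3,0,2]], [0,1,0,2,4,3,2,1,0,3], 30⟩,
  ⟨3, [[2,0,3],[0,2,0,3,0],[3,0,2,0,2,0,3,0,3,0,3,0,2,2],[2,0,2,0,3,3],[2,0,2,2,0,2,2]], [0,1,2,3,4,2,3], 28⟩,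
  ⟨5, [[2,2,0,3,3],[2,0,2,0,3,0,3],[0,2,0,2,0,3,0,3,0],[0,2,0,2,2,0,3,0,3,0,3,0,3,0,2,0,2,0,2,0,3,0,3,0,3,0,3,0,2,2],[2,2,0,2,0,2,2]], [0,1,2,3,4], 24⟩,
  ⟨8, [[3,3,0,2,2],[2,2,0,2,0,3,0,3,3],[2,0,2,0,2,0,3,0,3,0,3],[2,0,2,0,2,0,3,0,3,0,3,0,2,0,2,0,2,0,3,0,3,0,3,0]], [0,1,2,3], 16⟩] 5 bs (by decide +kernel)
def kV : List (List Nat) := [[2,2,2,0,3,3,3,0,3,0,2,0,3,0,2,2,2,0,2,0,2,2,2,2,0,2,2,0,2,0,3,0,2,2,0,3,3,3,0,3,0,2,0,2,0,3,0,2,0,3,0,3,0,2,2,0,3,3,3,0,3,0,2,0,2,0,3,0,2,0,3,0,3,0,2,2,0,3,3,3,0,3,0,2,0,3,3,0,2,0,2,0,3,0,2,2,0,3,3,3,0,3,0,2,0,2,2,0,2,0,2,2,0,3,0,2,0,2,2,2,0,3,3,0,2,0,3,0,3,0,2,2,0,3,0,2,0,2,2,2,0,3,3,0,2,0,2,0,3,0,2,0,3,0,3,0,2,0,2,2,2,0,3,3,0,2,0,2,0,3,0,2,0,3,0,3,0,2,0,2,2,2,0,3,3,0,2,0,3,0,3,3,0,2,2,0,2,0,3,0,2,2,0,3,3,3,0,3,0,2,0,2,0,3,0,2,0,3,0,3,0,2,2,0,3,3,3,0,3,0,2,0,2,0,3,0,2,0,3,0,3,0,2,2,0,3,3,3,0,3,0,2,0,3,3,0,2,0,2,0,3,0,2,2,0,3,3,3,0,3,0,2,0,2,2,0,3,0,2,0,2,0,3,0,3,0,3,3,3,0,2,2],[3,0,2,0,3,0,3,3,0,2,0,2,0,2,2,0,3,0,2,0,3,3,0,3,0,3,0,3,3,0],[2,0,2,0,2,0,3,0,3,0,3,0,2,0,2,0,2,0,2,0,3,3,0,3,0,3,0,3,0,2]]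
def kz : List Nat := [0]
theorem ks_0 : lall (fun w => fixesP l w bs) ((K21.Rf.take 3).map (substW kV)) = true := by decide +kernel
theorem ks_1 : lall (fun w => fixesP l w bs) (((K21.Rf.drop 3).take 1).map (substW kV)) = true := by decide +kernel
theorem ks_2 : lall (fun w => fixesP l w bs) ((((K21.Rf.drop 3).drop 1).take 1).map (substW kV)) = true := by decide +kernel
theorem ks_3 : lall (fun w => fixesP l w bs) (((((K21.Rf.drop 3).drop 1).drop 1).take 1).map (substW kV)) = true := by decide +kernel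
theorem ks_4 : lall (fun w => fixesP l w bs) ((((((K21.Rf.drop 3).drop 1).drop 1).drop 1).take 2).map (substW kV)) = true := by decide +kernel
theorem ks_5 : lall (fun w => fixesP l w bs) (((((((K21.Rf.drop 3).drop 1).drop 1).drop 1).drop 2).take 1).map (substW kV)) = true := by decide +kernel
theorem ks_6 : lall (fun w => fixesP l w bs) ((((((((K21.Rf.drop 3).drop 1).drop 1).drop 1).drop 2).drop 1).take 1).map (substW kV)) = true := by decide +kernel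
theorem ks_7 : lall (fun w => fixesP l w bs) ((((((((K21.Rf.drop 3).drop 1).drop 1).drop 1).drop 2).drop 1).drop 1).map (substW kV)) = true := by decide +kernel
theorem ks : lall (fun w => fixesP l w bs) (K21.Rf.map (substW kV)) = true :=
  (lall_split 3 ks_0 (lall_split 1 ks_1 (lall_split 1 ks_2 (lall_split 1 ks_3 (lall_split 2 ks_4 (lall_split 1 ks_5 (lall_split 1 ks_6 ks_7)))))))
def kaC : List Lvl := [⟨4, [[0],[2]], [0,1,0,1,1,1,0,1,1,1,1,0], 31⟩,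
  ⟨6, [[3,0,2],[3,0,3,0,2,2],[2,2,0,2,2,0,2],[0,3,0,2,0,2,2,2,0,3,3,0,2,0]], [0,1,0,2,3,0,1,0,3,1,3], 30⟩,
  ⟨26, [[2,2,0,3,3],[2,0,2,0,3,0,3],[2,0,3,0,2,0,3],[0,3,0,2,0,2,2,2,0,3,3,0,2,0,3,0,3,0,2,2,0,3,0,2,0,2,2,2,0,3,3,0,2,0,2,0,3,0,2,0,3,0,3,0,2,0,2,2,2,0,3,3,0,2,0,2,0,3,0,2,0,3,0,3,0,2,0,2,2,2,0,3,3,0,2,0,3,0,3,3,0,3,3]], [0,1,2,0,3,0,3,3], 28⟩,
  ⟨2, [[2,2,0,3,0,3,0,2,0,2,0,3,3],[2,2,2,2,0,2,0,3,0,2,2,0,3,3,3,0,3,0,2,0,2,0,3,0,2,0,3,0,3,0,2,2,0,3,3,3,0,3,0,2,0,2,0,3,0,2,0,3,0,3,0,2,2,0,3,3,3,0,3,0,2,0,3,3,0,2,0,2,0,3,0,2,2,0,3,3,3,0,3,0,2,0,3,3,0,3,0,3,3,0,3,0,2,0,2,2,2,0,3,3,0,2,0,3,0,3,0,2,2,0,3,0,2,0,2,2,2,0,3,3,0,2,0,2,0,3,0,2,0,3,0,3,0,2,0,2,2,2,0,3,3,0,2,0,2,0,3,0,2,0,3,0,3,0,2,0,2,2,2,0,3,3,0,2,0,3,0,3,3,0,3,3,3,3,0,3,0,3,3],[2,2,0,3,0,3,0,2,0,2,0,2,0,2,2],[2,2,0,2,0,3,3,0,3,0,2,0,2,0,3,3],[2,2,0,2,2,0,2,0,3,0,2,2,0,3,3,3,0,3,0,2,0,2,0,3,0,2,0,3,0,3,0,2,2,0,3,3,3,0,3,0,2,0,2,0,3,0,2,0,3,0,3,0,2,2,0,3,3,3,0,3,0,2,0,3,3,0,2,0,2,0,3,0,2,2,0,3,3,3,0,3,0,2,0,2,2,0,3,3,0,3,0,2,0,2,2,2,0,3,3,0,2,0,3,0,3,0,2,2,0,3,0,2,0,2,2,2,0,3,3,0,2,0,2,0,3,0,2,0,3,0,3,0,2,0,2,2,2,0,3,3,0,2,0,2,0,3,0,2,0,3,0,3,0,2,0,2,2,2,0,3,3,0,2,0,3,0,3,3,0,3,3]],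 [0,1,2,3,4,1], 24⟩,
  ⟨16, [[3,3,0,2,2],[2,2,0,2,0,3,0,3,3],[2,0,2,0,2,0,3,0,3,0,3],[2,2,0,2,2,0,2,0,3,0,2,2,0,3,3,3,0,3,0,2,0,2,0,3,0,2,0,3,0,3,0,2,2,0,3,3,3,0,3,0,2,0,2,0,3,0,2,0,3,0,3,0,2,2,0,3,3,3,0,3,0,2,0,3,3,0,2,0,2,0,3,0,2,2,0,3,3,3,0,3,0,2,0,2,2,0,3,3,0,3,0,2,0,2,2,2,0,3,3,0,2,0,3,0,3,0,2,2,0,3,0,2,0,2,2,2,0,3,3,0,2,0,2,0,3,0,2,0,3,0,3,0,2,0,2,2,2,0,3,3,0,2,0,2,0,3,0,2,0,3,0,3,0,2,0,2,2,2,0,3,3,0,2,0,3,0,3,3,0,3,3]], [0,1,2,3], 16⟩]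
def kaM : List (List Nat) := [[],
  [0x7fffffae],
  [0x63ffff2e],
  [0x237ff500],
  []]
def kaZ : List Nat := [0x7fffffff]
theorem kaL : LvOk G0 pt 31 [] (mkLV kaC kaM) := M0.lvOk kaC 5 kaM (by decide +kernel) (by decide +kernel)
noncomputable def kaT : Bt := (.br 0 [[0],[2],[4]] [0,1,2,2,0,1] (Bt.ofL [(4, [], (.step 0 0 [] (.br 0 [[4,2],[0,4,0]] [1,0,0,1,1,0,1,1] (Bt.ofL [(26, [], (.br 0 [[4,2],[2,0,0,2,0,0,0]] [0,0,0,1,0,1] (Bt.ofL [(2, [], (.br 0 [[0,5,2,4,2,1],[0,2,1,2,4,2,1,4,0],[0,4,0,4,2,4,0,2,0,0]] [0,1,2] (Bt.ofL [(16, [], (.leaf 0))])))])))]))))]))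
theorem kC : Subgroup.centralizer {z | ∃ w ∈ [kz], wprod g0 w = z} = genW g0 kV :=
  M0.cen kaL _ [[0]] _ 1 5 kaZ kaT (by decide +kernel) (by decide +kernel)
theorem kM : Mdl (Subgroup.centralizer {wprod g0 kz}) 3 K21.Rf 21504 :=
  M0.cenMdl (V := kV) K21.pr kC ks (M0.ge kV [⟨3, [[0],[4]], [0,0,0,1,0,0,0,0,0], 14⟩,
  ⟨1, [[4],[0,2,1]], [0,0,0,1,0,1], 16⟩,
  ⟨5, [[1,2,0,5],[1,1,4,1,2]], [0,1,0,1,1], 12⟩,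
  ⟨8, [[0,2,4,2,5,1],[0,2,1,1,4,0,2,4,2],[0,0,4,2,0,4,2,0,0,5]], [0,1,2], 8⟩] 5 (by decide +kernel))
theorem k2 : orderOf (wprod g0 kz) = 2 := M0.ordN _ (by decide +kernel)
theorem cen (s : G0) (hs : (s : Matrix (Fin 5) (Fin 5) (ZMod 2)) = Matrix.transvection 0 1 1) : Mdl (Subgroup.centralizer {s}) 3 K21.Rf 21504 := by
  have e : wprod g0 kz = letter b 0 := (wprod_single g0 0).trans ((wprod_single b 0).trans (letter_even b 0).symm)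
  have : wprod g0 kz = s := e.trans (inj_sl 5 ((mo 0 (by decide)).trans (Eq.trans (by
    refine Matrix.ext fun i j => ?_
    rw [mat_apply]; revert i j
    exact (by decide +kernel : ∀ i j : Fin 5, ((ent Ms 0 i j : Nat) : ZMod 2) = (if i = j then 1 else 0) + if 0 = i ∧ 1 = j then 1 else 0)) hs.symm)))
  exact this ▸ kM

end CfsgH7.L52

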