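import Cfsg.Agent.H7.Mult3
import Cfsg.Agent.H7.Cls
import Cfsg.Agent.H7.Mx5
import Cfsg.Agent.H7.Mu.McL
import Cfsg.Agent.H7.Mu.A8m

set_option autoImplicit false
set_option maxRecDepth 100000

universe u

open scoped Pointwise

namespace CfsgH7.McLm.C8

open CfsgH7.McLm

def W : List (List Nat) := [[4,3,0,3,6,1,1,1,4,6,0,6,1,1],[4,3,6,2,0,4,1,3,6,2,6,4],[1,6,1,3,0,3,4,0,3,4,6,0]]
def z : List Nat := [0,6,3,1,6,3,3,1,6,2,0,6,3,3]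
def kaC : List Lvl := [⟨146, [[0],[2],[4],[6]], [0,1,3,0,1,2,0,3,1,0,3,0,0], 275⟩,
  ⟨104, [[1,6,0],[0,2,4,1],[1,3,4,0]], [0,1,0,1,2,0,1,2,0,1,2,0,1], 162⟩,
  ⟨259, [[1,2,6,3,0],[1,6,3,4,6,0],[1,3,0,6,1,2,0]], [0,1,1,0,2,1,0,1,2,1,1,2], 56⟩,
  ⟨96, [[0,0,4,1,4,0,3,3,0,4],[0,0,6,0,2,1,4,1,6,1],[1,3,4,2,6,3,6,4,2,0],[1,4,6,4,2,1,4,1,1,2]], [0,1,2,3,2,0], 20⟩,
  ⟨85, [[3,1,4,2,2,4,1,4,0,2,2,4],[0,2,2,4,0,6,0,6,2,1,6,2,1],[1,2,6,3,3,0,6,1,2,2,6,3,0]], [0,1,2,1], 9⟩,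
  ⟨68, [[1,4,6,0,4,1,4,0,4,1,6,4,0]], [0], 2⟩]
def kaM : List (List Nat) := [[],
  [0xc5401421a10086a01440113ac80020848904400a00100200820000c002c26c1a0],
  [],
  [0x80000028000000002000000000000000002000140002400000000000],
  [0x100000400000000000],
  []]
def kaZ : List Nat := [0x7ffffffffffffffffffffffffffffffffffffffffffffffffffffffffffffffffffff]
theorem kaL : LvOk G0 McL.pt 275 [] (mkLV kaC kaM) := M0.lvOk kaC 9 kaM (by decide +kernel) (by decide +kernel)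
noncomputable def kaT : Bt := (.br 0 [[0],[2],[4]] [0,2,0,1,2,0,2,0,2,0,1,2,0,2,0,2] (Bt.ofL [(146, [], (.step 0 0 [] (.br 0 [[0,3],[5,1,2,4],[0,4,3,4,2]] [0,0,1,0,0,2,0,0,2] (Bt.ofL [(259, [], (.step 0 0 [] (.br 0 [[0,2,5,2,5,3],[3,1,4,2,1,5]] [0,1,0] (Bt.ofL [(85, [], (.step 0 0 [] (.leaf 0)))])))),
 (186, [1,6,4,2,6,0], (.step 0 0 [1,3,4,2,6,3,6,4,2,0] (.br 0 [[0,5,1,4,1,1,5],[2,4,1,4,0,5,2]] [0,1,0] (Bt.deads [[183,0,0,0]] .nil))))]))))]))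
theorem kC : Subgroup.centralizer {x | ∃ w ∈ [z], wprod g0 w = x} = genW g0 W :=
  M0.cen kaL _ [[0]] _ 1 9 kaZ kaT (by decide +kernel) (by decide +kernel)
theorem hc : Nat.card (genW g0 W) = 2 * 20160 :=
  M0.pcard (U := W) A8c.pr (by decide +kernel) (M0.ge W [⟨0, [[0],[2],[4]], [0,1,2,0,1,2,0,2,1,0,2,0,1,2,0,2], 240⟩,
  ⟨1, [[1,4,0,4],[1,5,3,1,4]], [0,1,0,1,0,1,0], 21⟩,
  ⟨2, [[1,4,1,1,5,3],[0,2,5,2,5,2,5,1],[2,0,4,1,5,1,4,2,4]], [0,1,2], 8⟩] 9 (by decide +kernel))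
theorem dc : Cfsg.IsNonsplitDoubleCover (genW g0 W) (alternatingGroup (Fin 8)) :=
  M0.dcover A8m.pr A8m.mdl0 A8m.simple A8m.perf0 (M0.subQuot A8m.pr A8m.mdl0 A8m.simple (W := W) [[0],[2],[4]] [0,5,0,5,0,5,0,5,0,5,0,5] (p := 2) (by norm_num) hc
    [0,0,0,0,0,1,0,0] (by decide +kernel) 0 0 [2] (by norm_num) (by decide +kernel)) [4,4,4,4,3,0,4,2,5,1,1,1,4,3,0,4,2,5,1,1,1,4,3,0,4,2,5,1,1,5,0,5,0,5,0,5,0,5,0,5] 3 (by decide +kernel) A8m.alt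
theorem o2 : orderOf (wprod g0 z) = 2 := M0.ordN _ (by decide +kernel)
def sS : List (List Nat) := [[3,1,1,4,0,6,4,2,1,6,0,3,4,6,4],[0,6,4,2,2,1,6,0,3,3,4,6,1],[2,6,2,4,2,2,6,3,3,4,3,6,3],[4,1,2,6,1,6,0,6,3,0,4],[6,1,2,0,4,6,4,6,4,1,3,0],[4,6,1,6,1,4,0,4,6,4,2,1,2],[6]]
theorem sP : Pc (fun j => wprod g0 (wordAt sS j)) 2 sS.length :=
  M0.pc [[12],[],[],[],[],[],[]] [[], [[2,4,12]], [[4],[4]], [[6,8,10],[6,10],[6,10,12]], [[8,12],[8,10,12],[8,12],[8]], [[10,12],[10],[10],[10],[10]], [[12],[12],[12],[12],[12],[12]]] (by decide +kernel) (M0.ge sS [⟨0, [[0],[2]], [0,1,0,0,0,1], 16⟩,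
  ⟨1, [[0,8],[1,6]], [0,1,0], 4⟩,
  ⟨2, [[6,8,12]], [0], 2⟩] 9 (by decide +kernel))
def sR : List (List Nat) := [[0,6,3,1,6,3,3,1,6,2,0,6,3,3]]
noncomputable def sT : Ct := (.cons (.cons (.cons (.cons (.cons (.cons (.cons .pw (.cons (.rep [0,2,4,0,6,3,6,1,6,0,3,6] 0) .nil)) (.cons (.one [[0]] [[]] (.rep [3,6,0,6,0,6,4,0,6,2,4,6,1,2] 0)) .nil)) (.cons (.one [[2]] [[12]] (.one [[4]] [[]] (.rep [4,2,6,1,4,0,6,4,0,3,4,2,0] 0))) .nil)) (.cons (.one [[0]] [[10,12]] (.one [[4]] [[12]] (.one [[2,4]] [[]] (.rep [1,2,4,0,4,1,2,4,6,1,3,4,2] 0)))) .nil)) (.cons (.cons (.cons (.one [[6]] [[12]] (.one [[8]] [[]] (.rep [6,1,3,6,3,0,6,2,2,4,6,1,1] 0))) (.cons (.one [[6]] [[12]] (.one [[8]] [[]] (.kill 6 1 []))) .nil)) (.cons (.one [[0]] [[10,12]] (.one [[6]] [[12]] (.kill 5 1 [12]))) .nil)) .nil)) (.cons (.one [[0]] [[12]] (.cons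 (.cons (.one [[8]] [[12]] (.one [[6,8]] [[]] (.rep [4,2,0,3,6,2,2,4,3,1,3,6,3,3] 0))) (.cons (.one [[8]] [[12]] (.kill 5 1 [12])) .nil)) (.cons (.cons (.one [[8]] [[12]] (.kill 5 1 [])) (.cons (.one [[8]] [[12]] (.one [[6,8]] [[]] (.kill 6 1 []))) .nil)) .nil))) .nil)) (.cons (.cons (.one [[2]] [[12]] (.cons (.one [[6]] [[10]] (.cons (.one [[10]] [[]] (.kill 6 1 [])) (.cons (.one [[10]] [[]] (.rep [6,1,4,6,2,4,3,1,4,3,6,2,6,0] 0)) .nil))) (.cons (.one [[6]] [[10]] (.kill 4 1 [10,12])) .nil))) (.cons (.one [[2]] [[12]] (.kill 2 1 [])) .nil)) .nil))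
theorem sK (y : G0) (hy : y ^ 2 = 1) (h1 : y ≠ 1) : ∃ r ∈ sR, IsConj y (wprod g0 r) :=
  M0.cl1 sP (by norm_num) (by decide) _ sT (by decide +kernel) y hy h1
theorem cj (y : G0) (hy : orderOf y = 2) : IsConj y (wprod g0 z) := by
  obtain ⟨r, h, e⟩ := sK y (hy ▸ pow_orderOf_eq_one y) (fun e => by rw [e, orderOf_one] at hy; omega)
  obtain rfl : r = z := List.mem_singleton.1 h
  exact e
theorem main : (∀ x y : G0, orderOf x = 2 → orderOf y = 2 → IsConj x y) ∧ ∃ t : G0, orderOf t = 2 ∧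
    Cfsg.IsNonsplitDoubleCover (Subgroup.centralizer ({t} : Set G0)) (alternatingGroup (Fin 8)) :=
  ⟨fun x y hx hy => (cj x hx).trans (cj y hy).symm, _, o2, (kC.symm.trans cen_one) ▸ dc⟩

end CfsgH7.McLm.C8

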