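import Cfsg.Agent.H7.Mult3
import Cfsg.Agent.H7.Cls
import Cfsg.Agent.H7.Li.O73

set_option autoImplicit false
set_option maxRecDepth 100000

universe u

open scoped Pointwise

namespace CfsgH7.O73.Cl

open CfsgH7.O73

def sS : List (List Nat) := [[1,3,6,2,4,1,3,0,0,6,4,0,4,1],[2,1,6,2,2,6,3,0,6,4,1,2],[2,1,6,1,4,0,4,0,3,6,4,2,0,0,2],[1,4,0,4,6,1,4,0,6,1,1,6,1,6,0],[0,2,0,2,6,0,0,6,1,6,4,6,2,6],[2,4,6,2,6,0,2,1,1,1,4,2,1,2],[6,3,4,6,3,0,0,6,4,3,4,3,6,3],[6,1,4,2,0,3,1,2,2,1,4,0,6],[0,4,6,1,4,6,0,3,1,1,6,1,2,6]]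
theorem sP : Pc (fun j => wprod g0 (wordAt sS j)) 3 sS.length :=
  M0.pc [[],[14],[],[],[],[],[],[],[]] [[], [[2,4,16,16]], [[4,16,16],[4,6,6,14]], [[6,16,16],[6,16],[6]], [[8,10,10,16,16],[8,12,12,14,14],[8,12,14,16,16],[8,14,14,16]], [[10,16],[10,12,14,14],[10,16],[10,16,16],[10]], [[12],[12,14],[12,16,16],[12],[12],[12]], [[14,16,16],[14],[14],[14],[14],[14],[14]], [[16],[16],[16],[16],[16],[16],[16],[16]]] (by decide +kernel) (M0.ge sS [⟨0, [[0],[2],[4],[6],[8],[12],[14]], [0,1,2,3,4,6,5,2,1,3,0], 243⟩,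
  ⟨1, [[1,5],[3,9,7]], [0,1,1,0,1], 9⟩,
  ⟨2, [[0,11,5]], [0,0], 3⟩,
  ⟨3, [[2,0,11,3]], [0,0], 3⟩] 9 (by decide +kernel))
def sR : List (List Nat) := [[4,1,6,1,2,0,4,0,4,0,6,1,4,0,0],[3,3,6,0,4,6,1,1,2,4,6,2,6,0,0],[1,1,1,3,0,2,1,2,6,3,6,0,2,1,3],[3,6,0,4,1,6,1,3,6,2,1,1],[6,4,0,0,3,6,1,1,2,1,3,4,3,6,4,1],[6,0,4,3,6,0,4,0,3,1,2,4,2,4],[0,4,1,4,6,1,1,2,0,4,3,6,2,0]]
noncomputable def sT : Ct := (.cons (.cons (.cons (.cons (.cons (.cons (.cons (.cons (.cons .pw (.cons (.rep [1,4,3,3,6,2,6,3,3,1,1,1,2,2,6] 3) (.cons (.rep [0,2,6,4,6,4,1,2,2,4,0,4,2] 3) .nil))) (.cons (.one [[0],[0,0]] [[],[]] (.rep [4,1,3,4,1,6,4,0,4,3,0,6] 3)) (.cons (.one [[0,0],[0]] [[],[]] (.rep [4,0,3,1,1,6,2,1,2,4,1,3,6,2] 3)) .nil))) (.cons (.one [[2,2],[2]] [[],[]] (.one [[4],[4,4]] [[],[]]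 (.rep [4,1,3,0,4,6,1,2,2,6,3,1,6,4] 6))) (.cons (.one [[2],[2,2]] [[],[]] (.one [[4,4],[4]] [[],[]] (.rep [0,0,3,1,1,6,2,0,0,3,1,2,6,4,1] 6))) .nil))) (.cons (.one [[2,2],[2]] [[14],[14]] (.cons (.one [[6],[6,6]] [[],[]] (.rep [3,4,3,3,6,3,6,1,2,6,0,6,4,1,1] 6)) (.cons (.one [[6],[6,6]] [[],[]] (.rep [6,3,6,0,0,2,4,3,1,1,6,0,0,2] 2)) (.cons (.one [[6],[6,6]] [[],[]] (.rep [1,6,1,6,4,3,4,3,6,1,4,6,4,6] 3)) .nil)))) (.cons (.one [[2],[2,2]] [[14,14],[14,14]] (.cons (.one [[6,6],[6]] [[],[]] (.rep [6,3,0,0,2,0,3,6,2,6,0,2,6] 6)) (.cons (.one [[6,6],[6]] [[],[]] (.rep [2,4,2,6,4,2,4,6,3,1,6,0,2,1] 3)) (.cons (.one [[6,6],[6]] [[],[]] (.rep [4,3,3,4,6,1,3,3,0,0,0,2,1,2] 2)) .nil)))) .nil))) (.cons (.one [[0],[0,0]] [[],[16]] (.one [[4,4],[4]] [[14,14,16],[14]] (.one [[6],[6,6]]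 [[16],[16,16]] (.cons (.rep [3,1,3,1,4,6,4,3,3,1,1,3,6,2] 6) (.cons (.rep [6,1,6,2,4,2,4,1,6,3,1,6,2,4] 3) (.cons (.rep [1,4,0,2,4,3,1,2,1,6,3,6,1,2,6] 2) .nil)))))) (.cons (.one [[0,0],[0]] [[16,16],[]] (.one [[4],[4,4]] [[14,14],[14,16,16]] (.one [[6,6],[6]] [[16],[16,16]] (.cons (.rep [3,1,1,2,6,4,0,3,0,0,6,2,2,1] 6) (.cons (.rep [1,3,0,2,4,6,4,6,0,0,6,3,1,3] 2) (.cons (.rep [0,6,4,1,6,1,4,2,4,6,2,0,2,2,4] 3) .nil)))))) .nil))) (.cons (.cons (.cons (.cons (.one [[8,8],[8]] [[16],[16,16]] (.one [[10,10],[10]] [[],[]] (.rep [4,6,1,4,3,1,1,3,4,6,1,6,1] 4))) (.cons (.one [[8,8],[8]] [[16],[16,16]] (.one [[10,10],[10]] [[],[]] (.rep [1,6,0,3,3,4,2,1,3,0,2,0,2] 5))) (.cons (.one [[8,8],[8]] [[16],[16,16]] (.one [[10,10],[10]] [[],[]] (.rep [2,4,1,3,6,2,4,0,6,4,0,2,0,2]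 3))) .nil))) (.cons (.one [[2,2],[2]] [[14,16,16],[14,16]] (.one [[8,8],[8]] [[16],[16,16]] (.one [[10,10],[10]] [[],[]] (.rep [3,4,0,0,6,4,3,1,3,1,6,3,4,3] 1)))) (.cons (.one [[2],[2,2]] [[14,14,16],[14,14,16,16]] (.one [[8,8],[8]] [[16],[16,16]] (.one [[10,10],[10]] [[],[]] (.rep [0,6,0,6,0,4,3,3,6,2,6,0,0,2] 1)))) .nil))) (.cons (.one [[0],[0,0]] [[16,16],[16,16]] (.one [[4,4],[4]] [[14,14,16],[14]] (.one [[8,8],[8]] [[16],[16,16]] (.one [[10,10],[10]] [[],[]] (.rep [4,3,6,0,2,6,2,0,0,2,4,3,0,4,2] 1))))) (.cons (.one [[0,0],[0]] [[],[16,16]] (.one [[4],[4,4]] [[14,14],[14,16,16]] (.one [[8,8],[8]] [[16],[16,16]] (.one [[10,10],[10]] [[],[]] (.rep [3,3,4,2,6,3,4,0,2,1,2,0,6,3] 1))))) .nil))) (.cons (.cons (.cons (.cons (.one [[8],[8,8]] [[16],[16,16]] (.one [[10],[10,10]]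 [[],[]] (.rep [2,4,6,3,0,6,0,2,1,2,0,4,0,2] 4))) (.cons (.one [[8],[8,8]] [[16],[16,16]] (.one [[10],[10,10]] [[],[]] (.rep [1,3,1,1,3,4,0,0,6,1,1,6] 3))) (.cons (.one [[8],[8,8]] [[16],[16,16]] (.one [[10],[10,10]] [[],[]] (.rep [4,6,4,6,1,2,6,0,2,6,1,6,0,6,4] 5))) .nil))) (.cons (.one [[2,2],[2]] [[14,16],[14,16,16]] (.one [[8],[8,8]] [[16],[16,16]] (.one [[10],[10,10]] [[],[]] (.rep [0,0,0,4,0,0,4,0,3,6,2,6,4] 1)))) (.cons (.one [[2],[2,2]] [[14,14,16,16],[14,14,16]] (.one [[8],[8,8]] [[16],[16,16]] (.one [[10],[10,10]] [[],[]] (.rep [3,3,6,0,3,1,4,3,1,1,4,6,2,4] 1)))) .nil))) (.cons (.one [[0],[0,0]] [[16],[]] (.one [[4,4],[4]] [[14,14,16],[14]] (.one [[8],[8,8]] [[16],[16,16]] (.one [[10],[10,10]] [[],[]] (.rep [6,3,4,1,4,1,1,1,6,0,2,2,1,6,4] 1))))) (.cons (.one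 [[0,0],[0]] [[16],[16]] (.one [[4],[4,4]] [[14,14],[14,16,16]] (.one [[8],[8,8]] [[16],[16,16]] (.one [[10],[10,10]] [[],[]] (.rep [4,2,0,4,1,1,6,3,1,2,6,2,6,2,1] 1))))) .nil))) .nil))) (.cons (.one [[2],[2,2]] [[14,16],[14,14]] (.cons (.cons (.one [[8],[8,8]] [[14,14],[14]] (.cons (.one [[12,12],[12]] [[],[]] (.rep [2,4,6,0,2,1,3,1,2,4,1,2,6,4] 4)) (.cons (.one [[12,12],[12]] [[],[]] (.rep [4,3,6,3,6,3,1,1,1,3,0,6,2,1,2] 0)) (.cons (.one [[12,12],[12]] [[],[]] (.rep [3,3,1,3,3,0,6,3,3,1,1,1] 1)) .nil)))) (.cons (.one [[8],[8,8]] [[14,14],[14]] (.cons (.one [[12,12],[12]] [[],[]] (.rep [3,1,3,1,1,1,6,0,3,1,6,0,3] 5)) (.cons (.one [[12,12],[12]] [[],[]] (.rep [3,6,3,0,2,0,4,2,1,6,1,1,6,0,0] 1)) (.cons (.one [[12,12],[12]] [[],[]] (.rep [4,1,4,3,1,4,0,3,0,0,6,1,4]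 0)) .nil)))) (.cons (.one [[8],[8,8]] [[14,14],[14]] (.cons (.one [[12,12],[12]] [[],[]] (.rep [0,4,6,2,1,4,3,3,4,1,6,0,4,0] 6)) (.cons (.one [[12,12],[12]] [[],[]] (.rep [1,4,3,4,0,0,6,1,6,0,3,6,2,6] 4)) (.cons (.one [[12,12],[12]] [[],[]] (.rep [4,0,4,2,4,2,0,2,6,1,1,2,6,0,6] 5)) .nil)))) .nil))) (.cons (.one [[0],[0,0]] [[16,16],[16,16]] (.one [[8],[8,8]] [[14,14],[14]] (.one [[6],[6,6]] [[16],[16,16]] (.one [[12,12],[12]] [[],[]] (.kill 8 2 []))))) (.cons (.one [[0,0],[0]] [[],[16,16]] (.one [[8],[8,8]] [[14,14],[14]] (.one [[6,6],[6]] [[16],[16,16]] (.one [[12,12],[12]] [[],[]] (.kill 8 1 []))))) .nil)))) (.cons (.one [[2,2],[2]] [[14],[14,14,16,16]] (.cons (.cons (.one [[8,8],[8]] [[14,14,16],[14,16,16]] (.cons (.one [[12],[12,12]] [[],[]] (.rep [0,6,3,4,0,2,6,0,0,3,1,6,0,0,2]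 4)) (.cons (.one [[12],[12,12]] [[],[]] (.rep [4,1,6,3,3,6,4,3,3,4,0,4,3] 1)) (.cons (.one [[12],[12,12]] [[],[]] (.rep [2,1,3,3,6,0,2,0,0,6,3,6,1,1,1] 0)) .nil)))) (.cons (.one [[8,8],[8]] [[14,14,16],[14,16,16]] (.cons (.one [[12],[12,12]] [[],[]] (.rep [0,2,0,3,3,4,0,2,2,0,4,6,0,6] 6)) (.cons (.one [[12],[12,12]] [[],[]] (.rep [2,4,3,4,0,6,2,0,2,0,4,6,3,4,3,4] 5)) (.cons (.one [[12],[12,12]] [[],[]] (.rep [3,6,1,1,1,6,0,6,0,0,3,0,6,2] 4)) .nil)))) (.cons (.one [[8,8],[8]] [[14,14,16],[14,16,16]] (.cons (.one [[12],[12,12]] [[],[]] (.rep [0,4,6,4,1,3,0,0,0,6,3,6,1,4,3] 5)) (.cons (.one [[12],[12,12]] [[],[]] (.rep [4,1,3,6,2,2,0,2,1,1,4,2] 0)) (.cons (.one [[12],[12,12]] [[],[]] (.rep [0,0,0,6,0,2,1,2,6,4,6,0,0,4,3] 1)) .nil)))) .nil))) (.cons (.one [[0],[0,0]]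 [[16],[]] (.one [[8,8],[8]] [[14,14,16],[14,16,16]] (.one [[6],[6,6]] [[16],[16,16]] (.one [[12],[12,12]] [[],[]] (.kill 8 2 []))))) (.cons (.one [[0,0],[0]] [[16],[16]] (.one [[8,8],[8]] [[14,14,16],[14,16,16]] (.one [[6,6],[6]] [[16],[16,16]] (.one [[12],[12,12]] [[],[]] (.kill 8 1 []))))) .nil)))) .nil))) (.cons (.one [[0,0],[0]] [[16],[]] (.one [[4,4],[4]] [[14,16],[14,14,16,16]] (.cons (.cons (.one [[10],[10,10]] [[14,14],[14]] (.one [[12],[12,12]] [[],[]] (.kill 7 1 []))) (.cons (.one [[10],[10,10]] [[14,14],[14]] (.one [[12],[12,12]] [[],[]] (.kill 7 2 []))) (.cons (.one [[10],[10,10]] [[14,14],[14]] (.one [[12],[12,12]] [[],[]] (.cons (.rep [2,0,6,4,3,6,3,3,0,2,0,2,0,4] 1) (.cons (.rep [0,3,0,4,0,3,1,2,2,6,4,2,4] 4) (.cons (.rep [4,6,2,4,6,4,6,0,6,3,6,1,2,0,4]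 0) .nil))))) .nil))) (.cons (.cons (.one [[10],[10,10]] [[14,14],[14]] (.one [[12],[12,12]] [[],[]] (.cons (.rep [4,0,6,2,4,3,3,0,4,2,6,0,3,4] 5) (.cons (.rep [0,2,4,6,0,6,4,1,1,4,6,1,6,0] 6) (.cons (.rep [6,1,6,1,2,0,4,0,6,4,6,1,3] 4) .nil))))) (.cons (.one [[10],[10,10]] [[14,14],[14]] (.one [[12],[12,12]] [[],[]] (.kill 7 1 []))) (.cons (.one [[10],[10,10]] [[14,14],[14]] (.one [[12],[12,12]] [[],[]] (.kill 7 2 []))) .nil))) (.cons (.cons (.one [[10],[10,10]] [[14,14],[14]] (.one [[12],[12,12]] [[],[]] (.kill 7 2 []))) (.cons (.one [[10],[10,10]] [[14,14],[14]] (.one [[12],[12,12]] [[],[]] (.cons (.rep [6,2,1,3,0,2,0,4,0,6,0,3,1,1] 0) (.cons (.rep [6,1,6,4,6,4,1,1,1,6,2,1,1,6,4,2] 5) (.cons (.rep [2,0,3,1,2,1,4,0,2,6,2,6,1,1] 1) .nil))))) (.cons (.one [[10],[10,10]]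 [[14,14],[14]] (.one [[12],[12,12]] [[],[]] (.kill 7 1 []))) .nil))) .nil))))) (.cons (.one [[0],[0,0]] [[6,14,14,16,16],[6,6,14]] (.one [[4],[4,4]] [[14],[14,14]] (.cons (.cons (.one [[10,10],[10]] [[14],[14,14]] (.one [[12,12],[12]] [[],[]] (.kill 7 2 []))) (.cons (.one [[10,10],[10]] [[14],[14,14]] (.one [[12,12],[12]] [[],[]] (.cons (.rep [1,1,1,2,6,1,6,3,1,1,4,2,1,4,0,3] 1) (.cons (.rep [4,2,4,2,1,6,4,1,2,6,2,4,0] 0) (.cons (.rep [2,6,3,0,0,4,1,4,6,0,4,3,1,6] 4) .nil))))) (.cons (.one [[10,10],[10]] [[14],[14,14]] (.one [[12,12],[12]] [[],[]] (.kill 7 1 []))) .nil))) (.cons (.cons (.one [[10,10],[10]] [[14],[14,14]] (.one [[12,12],[12]] [[],[]] (.kill 7 1 []))) (.cons (.one [[10,10],[10]] [[14],[14,14]] (.one [[12,12],[12]] [[],[]] (.kill 7 2 []))) (.cons (.one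 [[10,10],[10]] [[14],[14,14]] (.one [[12,12],[12]] [[],[]] (.cons (.rep [4,0,0,6,4,6,3,3,4,0,3,4,6,4,1] 0) (.cons (.rep [1,3,1,1,2,6,3,0,2,0,6,4,3,0,3] 1) (.cons (.rep [6,2,4,0,6,2,6,3,6,2,4,2,4,6,3] 5) .nil))))) .nil))) (.cons (.cons (.one [[10,10],[10]] [[14],[14,14]] (.one [[12,12],[12]] [[],[]] (.cons (.rep [1,2,6,2,1,1,3,6,0,4,2,4,6,3] 5) (.cons (.rep [6,0,4,3,4,1,6,3,6,3,0,0,4,2,1] 4) (.cons (.rep [0,0,2,6,2,1,4,0,2,6,0,3] 6) .nil))))) (.cons (.one [[10,10],[10]] [[14],[14,14]] (.one [[12,12],[12]] [[],[]] (.kill 7 1 []))) (.cons (.one [[10,10],[10]] [[14],[14,14]] (.one [[12,12],[12]] [[],[]] (.kill 7 2 []))) .nil))) .nil))))) .nil))) (.cons (.cons (.one [[2],[2,2]] [[],[6,6,14,16,16]] (.cons (.cons (.one [[8,8],[8]] [[],[]] (.cons (.cons (.one [[14,14],[14]]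 [[],[]] (.rep [3,6,0,6,4,1,6,1,2,4,1,3,4,1] 6)) (.cons (.one [[14,14],[14]] [[],[]] (.rep [4,2,0,0,6,1,6,0,6,4,2,4,2,1] 1)) (.cons (.one [[14,14],[14]] [[],[]] (.rep [0,6,2,4,6,1,4,1,2,0,2,6,1,3,0] 1)) .nil))) (.cons (.cons (.one [[14,14],[14]] [[],[]] (.rep [1,6,0,0,6,2,4,6,2,2,0,3] 0)) (.cons (.one [[14,14],[14]] [[],[]] (.rep [6,4,0,6,0,4,0,2,0,4,1,6,2,1,6,4] 4)) (.cons (.one [[14,14],[14]] [[],[]] (.rep [1,6,1,1,3,6,2,6,1,2,0,4,1] 4)) .nil))) (.cons (.cons (.one [[14,14],[14]] [[],[]] (.rep [3,1,2,6,4,3,1,4,0,4,2,6,1,1] 0)) (.cons (.one [[14,14],[14]] [[],[]] (.rep [4,3,3,0,4,3,6,3,4,2,2,6,2] 5)) (.cons (.one [[14,14],[14]] [[],[]] (.rep [6,4,3,1,2,4,3,3,1,2,6,2,6,2,1,1] 5)) .nil))) .nil)))) (.cons (.one [[8,8],[8]] [[],[]] (.one [[4,4],[4]] [[14,14],[14,16]]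 (.one [[6],[6,6]] [[16,16],[16]] (.one [[14,14],[14]] [[],[]] (.kill 8 2 []))))) (.cons (.one [[8,8],[8]] [[],[]] (.one [[4],[4,4]] [[14,14,16],[14,16]] (.one [[6,6],[6]] [[],[]] (.one [[14,14],[14]] [[],[]] (.kill 8 1 []))))) .nil))) (.cons (.cons (.one [[8,8],[8]] [[14,14],[14]] (.cons (.cons (.one [[14,14],[14]] [[],[]] (.rep [0,6,3,0,4,0,3,3,1,4,0,3,0,6,3] 0)) (.cons (.one [[14,14],[14]] [[],[]] (.rep [4,0,2,4,6,1,1,4,1,6,0,2,6] 0)) (.cons (.one [[14,14],[14]] [[],[]] (.rep [3,3,6,4,6,2,6,4,6,2,6,4,6,3] 1)) .nil))) (.cons (.cons (.one [[14,14],[14]] [[],[]] (.rep [4,2,4,2,6,4,6,0,4,2,4,0,3,6] 0)) (.cons (.one [[14,14],[14]] [[],[]] (.rep [3,3,0,6,4,6,1,3,0,3,1,4,1,3,1] 0)) (.cons (.one [[14,14],[14]] [[],[]] (.rep [1,4,6,2,1,2,4,0,2,6,1,1,1,2,6] 1)) .nil))) (.cons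 (.cons (.one [[14,14],[14]] [[],[]] (.rep [6,0,3,0,6,2,6,1,4,2,4,2,0] 1)) (.cons (.one [[14,14],[14]] [[],[]] (.rep [4,2,1,4,2,1,4,2,0,2,6,1,3,0,3,6] 1)) (.cons (.one [[14,14],[14]] [[],[]] (.rep [1,6,4,0,3,1,3,1,6,1,3,1,6,1,3] 2)) .nil))) .nil)))) (.cons (.one [[8,8],[8]] [[14,14],[14]] (.one [[4,4],[4]] [[14,14],[14,16]] (.one [[6],[6,6]] [[16,16],[16]] (.one [[14,14],[14]] [[],[]] (.kill 8 1 []))))) (.cons (.one [[8,8],[8]] [[14,14],[14]] (.one [[4],[4,4]] [[14,14,16],[14,16]] (.one [[6,6],[6]] [[],[]] (.one [[14,14],[14]] [[],[]] (.kill 8 2 []))))) .nil))) (.cons (.cons (.one [[8,8],[8]] [[14],[14,14]] (.cons (.cons (.one [[14,14],[14]] [[],[]] (.rep [1,1,3,0,0,6,0,2,0,6,1,3,4,2] 1)) (.cons (.one [[14,14],[14]] [[],[]] (.rep [4,6,3,0,0,4,1,3,0,0,6,2,0,3,0,6]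 5)) (.cons (.one [[14,14],[14]] [[],[]] (.rep [0,3,4,3,1,4,0,4,0,6,2,0,2,0] 1)) .nil))) (.cons (.cons (.one [[14,14],[14]] [[],[]] (.rep [1,2,6,0,4,1,4,1,1,6,4,2,0,2,4] 1)) (.cons (.one [[14,14],[14]] [[],[]] (.rep [2,1,2,0,6,3,3,1,2,2,0,2,2] 3)) (.cons (.one [[14,14],[14]] [[],[]] (.rep [2,0,4,2,0,2,6,3,0,4,1,4,6,4,1,3] 1)) .nil))) (.cons (.cons (.one [[14,14],[14]] [[],[]] (.rep [0,3,6,1,1,4,3,3,6,0,4,2] 1)) (.cons (.one [[14,14],[14]] [[],[]] (.rep [0,0,4,6,2,4,1,3,6,0,2,0,4,1] 4)) (.cons (.one [[14,14],[14]] [[],[]] (.rep [6,3,0,2,1,6,3,6,4,1,6,0,4,2] 1)) .nil))) .nil)))) (.cons (.one [[8,8],[8]] [[14],[14,14]] (.one [[4,4],[4]] [[14,14],[14,16]] (.one [[6],[6,6]] [[16,16],[16]] (.one [[14,14],[14]] [[],[]] (.rep [0,0,2,4,6,3,0,0,4,1,3,6,0] 1))))) (.cons (.one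 [[8,8],[8]] [[14],[14,14]] (.one [[4],[4,4]] [[14,14,16],[14,16]] (.one [[6,6],[6]] [[],[]] (.one [[14,14],[14]] [[],[]] (.rep [1,6,3,0,6,1,2,1,1,4,6,0,4,3] 1))))) .nil))) .nil)))) (.cons (.one [[2],[2,2]] [[6,6,14],[16]] (.one [[4,4],[4]] [[14],[14,14]] (.kill 3 1 []))) (.cons (.one [[2],[2,2]] [[6,14,14,16],[6,14,14,16,16]] (.one [[4],[4,4]] [[14,16],[14,14,16,16]] (.kill 3 1 [14]))) .nil))) (.cons (.cons (.one [[2,2],[2]] [[6,14,14,16,16],[16,16]] (.cons (.cons (.one [[8],[8,8]] [[16,16],[16]] (.cons (.cons (.one [[14],[14,14]] [[],[]] (.rep [] 6)) (.cons (.one [[14],[14,14]] [[],[]] (.rep [3,0,0,6,4,3,1,2,4,3,0,6,4,1] 1)) (.cons (.one [[14],[14,14]] [[],[]] (.rep [1,4,6,1,2,0,0,3,1,1,4,0,2,6] 1)) .nil))) (.cons (.cons (.one [[14],[14,14]] [[],[]] (.rep [2,6,4,2,1,1,6,2,4,6,1,3]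 0)) (.cons (.one [[14],[14,14]] [[],[]] (.rep [3,1,6,2,4,0,6,1,1,6,2,4,3,0,3] 5)) (.cons (.one [[14],[14,14]] [[],[]] (.rep [3,6,1,4,1,6,2,6,0,2,1,4,0] 5)) .nil))) (.cons (.cons (.one [[14],[14,14]] [[],[]] (.rep [1,3,6,0,6,4,1,2,4,6,1,3] 0)) (.cons (.one [[14],[14,14]] [[],[]] (.rep [6,0,6,3,1,6,4,1,4,3,6,0,2,1,4] 4)) (.cons (.one [[14],[14,14]] [[],[]] (.rep [3,0,0,6,4,0,4,3,0,2,1,4,1,6] 4)) .nil))) .nil)))) (.cons (.one [[8],[8,8]] [[16,16],[16]] (.one [[4,4],[4]] [[14,14,16,16],[14,16,16]] (.one [[6],[6,6]] [[],[]] (.one [[14],[14,14]] [[],[]] (.kill 8 2 []))))) (.cons (.one [[8],[8,8]] [[16,16],[16]] (.one [[4],[4,4]] [[14,14,16,16],[14]] (.one [[6,6],[6]] [[16,16],[16]] (.one [[14],[14,14]] [[],[]] (.kill 8 1 []))))) .nil))) (.cons (.cons (.one [[8],[8,8]]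 [[14],[14,14]] (.cons (.cons (.one [[14],[14,14]] [[],[]] (.rep [0,4,3,0,2,6,0,3,0,0,0,3,6,0,6,4] 1)) (.cons (.one [[14],[14,14]] [[],[]] (.rep [6,2,6,3,6,4,6,3,4,2,4,0,2,6] 1)) (.cons (.one [[14],[14,14]] [[],[]] (.rep [] 5)) .nil))) (.cons (.cons (.one [[14],[14,14]] [[],[]] (.rep [6,4,6,1,1,4,6,0,3,0,6,3,4,0] 1)) (.cons (.one [[14],[14,14]] [[],[]] (.rep [1,1,2,6,0,4,3,6,2,1,3,1,1,3] 1)) (.cons (.one [[14],[14,14]] [[],[]] (.rep [] 4)) .nil))) (.cons (.cons (.one [[14],[14,14]] [[],[]] (.rep [4,1,3,4,6,0,3,1,4,2,6,0,0,0] 1)) (.cons (.one [[14],[14,14]] [[],[]] (.rep [4,3,4,1,4,3,3,0,4,6,3,1,3] 1)) (.cons (.one [[14],[14,14]] [[],[]] (.rep [] 3)) .nil))) .nil)))) (.cons (.one [[8],[8,8]] [[14],[14,14]] (.one [[4,4],[4]] [[14,14,16,16],[14,16,16]] (.one [[6],[6,6]]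 [[],[]] (.one [[14],[14,14]] [[],[]] (.rep [2,1,4,1,2,0,4,1,1,3,6,2,4] 1))))) (.cons (.one [[8],[8,8]] [[14],[14,14]] (.one [[4],[4,4]] [[14,14,16,16],[14]] (.one [[6,6],[6]] [[16,16],[16]] (.one [[14],[14,14]] [[],[]] (.rep [1,6,4,6,1,3,6,1,3,4,2,6,1,4,6] 1))))) .nil))) (.cons (.cons (.one [[8],[8,8]] [[14,14,16],[14,16,16]] (.cons (.cons (.one [[14],[14,14]] [[],[]] (.rep [1,4,1,2,1,3,6,3,0,2,2,1,6,2,1] 0)) (.cons (.one [[14],[14,14]] [[],[]] (.rep [6,2,4,3,0,0,4,3,4,3,6,1,3] 1)) (.cons (.one [[14],[14,14]] [[],[]] (.rep [0,0,3,4,1,6,0,0,3,6,0,6,2,2,6] 0)) .nil))) (.cons (.cons (.one [[14],[14,14]] [[],[]] (.rep [4,3,4,6,2,4,0,2,4,2,0,2,1,6,4] 1)) (.cons (.one [[14],[14,14]] [[],[]] (.rep [] 2)) (.cons (.one [[14],[14,14]] [[],[]] (.rep [1,6,1,2,1,2,0,6,3,1,6,3,6,2]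 1)) .nil))) (.cons (.cons (.one [[14],[14,14]] [[],[]] (.rep [1,2,4,2,1,3,0,2,6,2,4,3,0,2,2] 0)) (.cons (.one [[14],[14,14]] [[],[]] (.rep [] 1)) (.cons (.one [[14],[14,14]] [[],[]] (.rep [] 0)) .nil))) .nil)))) (.cons (.one [[8],[8,8]] [[14,14,16],[14,16,16]] (.one [[4,4],[4]] [[14,14,16,16],[14,16,16]] (.one [[6],[6,6]] [[],[]] (.one [[14],[14,14]] [[],[]] (.kill 8 1 []))))) (.cons (.one [[8],[8,8]] [[14,14,16],[14,16,16]] (.one [[4],[4,4]] [[14,14,16,16],[14]] (.one [[6,6],[6]] [[16,16],[16]] (.one [[14],[14,14]] [[],[]] (.kill 8 2 []))))) .nil))) .nil)))) (.cons (.one [[2,2],[2]] [[],[6,14,14,16,16]] (.one [[4,4],[4]] [[14,16,16],[14,14,16]] (.kill 3 2 [14,14,16]))) (.cons (.one [[2,2],[2]] [[6,6,14,16,16],[6,6,14,16]] (.one [[4],[4,4]] [[14,16,16],[14,14,16]]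 (.kill 3 2 [16,16]))) .nil))) .nil)))
theorem sK (y : G0) (hy : y ^ 3 = 1) (h1 : y ≠ 1) : ∃ r ∈ sR, IsConj y (wprod g0 r) :=
  M0.cl1 sP (by norm_num) (by decide) _ sT (by decide +kernel) y hy h1
def c0C : List Lvl := [⟨321, [[0],[2],[4],[6]], [0,1,2,0,1,3,2,0,1,3,2,0], 364⟩,
  ⟨108, [[2,6,3],[3,6,2],[4,1,2,6]], [0,1,2,0,2,1,0,2,1,2,0,1,2], 120⟩,
  ⟨328, [[0,2,0,2,0,2,0,2]], [0], 2⟩,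
  ⟨88, [[0,2,2,0,2,1,3],[0,6,0,6,1,2,4,3],[1,6,3,4,2,6,0,4]], [0,1,0,2,1,0,2,1,0,0], 81⟩,
  ⟨206, [[1,2,0,2,4,0,6,2,4,2,0],[6,3,0,4,2,6,3,4,1,2,6],[6,4,0,6,2,4,3,6,1,4,6]], [0,1,2,0,1,0,0], 36⟩,
  ⟨104, [[0,3,0,6,2,6,4,1,3,1,1,4,0],[4,1,2,0,6,3,1,6,2,6,3,4,6]], [0,1,0], 6⟩,
  ⟨212, [[6,2,6,3,0,6,1,2,0,6,1,6,3,6]], [0,0], 3⟩]
def c0M : List (List Nat) := [[0x60f224185440550511082d5309690860840cc0a8014240b880041a00052863096b50442521911e1c3b04e04bdbf],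
  [0x10000000000000000000000000000000000000000000000000000000000000000000000001000000000],
  [0x201008008948272044202006214e40820a000041020104158b124025a4000c2108031da0e4a4022007a0504000],
  [0x200000008040072044202000014400020200004100000014881000208000000000001820802402000500104000],
  [0x1000000000000000000000, 0x8000000000000000000000840000800000000000000000000000000002100000000000000000000000000],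
  [0x10000000000000000000000000000000000000000000000, 0x100000000000000000000000000000000004000000000000000040],
  [0x100000000000000000000000000000000000000000000000000000000000000000000000000000000000]]
def c0Z : List Nat := [0xfffffffffffffffffffffffffffffffffffffffffffffffffffffffffffffffffffffffffffffffffffffffffff]
theorem c0L : LvOk G0 (finPt 364) 364 [] (mkLV c0C c0M) := M0.lvOk c0C 9 c0M (by decide +kernel) (by decide +kernel)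
theorem n01 : ¬ IsConj (wprod g0 (wordAt sR 0)) (wprod g0 (wordAt sR 1)) :=
  M0.nconj c0L _ _ [[0],[0,0],[1]] [[3,3,6,0,4,6,1,1,2,4,6,2,6,0,0],[0,0,3,6,2,0,6,0,4,1,6,2],[6,3,4,2,4,3,0,0,2,0,6],[6,4,0,6,1,4,0,3,0,4,1,6,3,0,2],[3,6,3,1,3,6,3,3,0,2,2,1,1,4,6],[4,3,4,3,1,1,6,1,3,4,3,1,2,0,6,0,6,1,6,1,3,6,0,2,4,1,6,1,3,1,6,1,3,6,0,2,4,6,1]] 1 9 c0Z
    (.br 0 [[10]] [0] (Bt.ofL [(321, [], (.br 0 [] [] (Bt.ofL [(108, [], (.br 0 [] [] (Bt.ofL [(328, [], (.br 0 [[0],[2],[4],[6],[8]] [0,1,3,4,3,4,0,2,3] (Bt.ofL [(88, [], (.step 0 0 [6,3,0,4,2,6,3,4,1,2,6,1,2,0,2,4,0,6,2,4,2,0] (.dead 0 0 0)))]))),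
 (36, [0,2,0,2,0,2,0,2], (.br 0 [[0],[2],[4],[6],[8]] [0,1,2,3,4,1,2,3] (Bt.deads [[112,0,0,0]] .nil)))]))),
 (36, [4,1,2,6,4,1,2,6,2,6,3], (.br 0 [] [] (Bt.ofL [(108, [], (.br 0 [[0],[2],[4],[6],[8]] [0,1,3,2,4,1,3,1,0] (Bt.deads [[299,0,0,0]] .nil))),
 (328, [0,2,0,2,0,2,0,2], (.br 0 [[0],[2],[6],[8]] [0,2,3,1,2,3,0,1,2] (Bt.ofL [(266, [], (.step 0 0 [1,4,0,0,2,0,4,6,3,6,1,2,1,1,2,0,2,4,0,6,2,4,2,0] (.dead 0 0 0)))])))]))),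
 (328, [6,3,0,4,0,6,0,6,1,2,4,3,3,6,2], (.br 0 [] [] (Bt.ofL [(108, [], (.br 0 [[0],[2],[4],[6],[8]] [0,1,2,3,4,1,3,4,0] (Bt.deads [[107,0,0,0]] .nil))),
 (36, [0,2,0,2,0,2,0,2], (.br 0 [[0],[2],[4],[6],[8]] [0,1,2,3,4,2,3,1,0] (Bt.deads [[333,0,0,0]] .nil)))])))]))),
 (108, [2,6,2,2], (.br 0 [[10]] [0] (Bt.ofL [(321, [0,6,0,6,1,2,4,3,4,1,2,6], (.br 0 [] [] (Bt.ofL [(328, [], (.br 0 [[0],[2],[4],[6],[8]] [0,1,3,4,3,4,0,2,1] (Bt.ofL [(66, [], (.step 0 0 [1,4,0,0,2,0,4,6,3,6,1,2,1,1,3,4,3,6,1,4,3,1,3,0] (.br 1 [[4,2]] [0,0] (Bt.deads [[305,0,0,0],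
 [150,0,0,0,0,3,0,6,2,6,4,1,3,1,1,4,0]] .nil))))]))),
 (36, [0,2,0,2,0,2,0,2], (.br 0 [[0],[2],[4],[6]] [0,1,2,3,1,3,2,3,0] (Bt.deads [[270,0,0,0]] .nil)))]))),
 (328, [1,6,3,4,2,6,0,4,2,6,3], (.br 0 [[10]] [0] (Bt.ofL [(321, [], (.br 0 [[0],[2],[4],[6],[8]] [0,1,2,3,4,1,4,2,0] (Bt.deads [[0,0,0,0]] .nil)))])))]))),
 (328, [4,0,6], (.br 0 [[10]] [0] (Bt.ofL [(108, [], (.br 0 [[10]] [0] (Bt.ofL [(36, [], (.br 0 [[0],[2],[4],[6],[8]] [0,1,2,3,4,2,3,1,0] (Bt.deads [[28,0,0,0]] .nil)))]))),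
 (321, [4,1,2,6,4,1,2,6,2,6,3], (.br 0 [] [] (Bt.ofL [(108, [], (.br 0 [[0],[2],[4],[6],[8]] [0,1,3,2,4,1,3,4,0] (Bt.deads [[191,0,0,0]] .nil))),
 (36, [0,2,0,2,0,2,0,2], (.br 0 [[0],[2],[4],[6]] [0,1,2,3,2,3,1,0] (Bt.deads [[35,0,0,0]] .nil)))])))])))])) (by decide +kernel) (by decide +kernel)
theorem n02 : ¬ IsConj (wprod g0 (wordAt sR 0)) (wprod g0 (wordAt sR 2)) :=
  M0.nconj c0L _ _ [[0],[0,0],[1]] [[1,1,1,3,0,2,1,2,6,3,6,0,2,1,3],[0,6,1,3,3,0,3,0,6,0,4,0,2,0,4],[4,1,4,6,0,6,2,0,6,1,6,2,4],[2,0,3,0,4,6,0,2,4,3,1,4,6,3,1],[4,2,6,2,0,4,6,4,1,3,6,3,4],[2,0,4,3,1,6,3,1,1,3,1],[6,3,0,4,0,3,1,6,0,6,1,2,4,3]] 1 9 c0Z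
    (.br 0 [[2],[4],[6],[8],[10],[12]] [1,3,4,5,3,4,0,2] (Bt.ofL [(321, [], (.br 0 [[10,12,10]] [0] (Bt.ofL [(108, [], (.br 0 [] [] (Bt.ofL [(328, [], (.br 0 [[0],[2],[4,6],[8,4,11]] [0,1,0,2,3,1,2] (Bt.deads [[88,0,0,0],
 [70,0,0,0,0,2,2,0,2,1,3]] .nil))),
 (36, [0,2,0,2,0,2,0,2], (.br 0 [[0],[2],[4,6],[8,4,11],[4,13,2,12,4],[12,2,4,7,13]] [0,1,0,3,1,4,2,5] (Bt.deads [[112,0,0,0]] .nil)))]))),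
 (328, [6,3,0,4,0,6,0,6,1,2,4,3,3,6,2], (.br 0 [[10,12,10]] [0] (Bt.ofL [(108, [], (.br 0 [[0],[2],[4,6],[8,4,11],[4,13,2,12,4]] [0,1,0,2,3,1,4,3,2] (Bt.deads [[107,0,0,0]] .nil)))])))]))),
 (328, [4,0,6], (.br 0 [[2],[4],[6],[10],[12],[8]] [1,3,5,4,2,3,0] (Bt.ofL [(108, [], (.br 0 [[4,13]] [0] (Bt.ofL [(36, [], (.br 0 [[0],[2],[4,6],[8,4,11],[7,13,7,13]] [0,1,0,3,1,4,1,2,4] (Bt.deads [[28,0,0,0]] .nil)))])))])))])) (by decide +kernel) (by decide +kernel)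
theorem n03 : ¬ IsConj (wprod g0 (wordAt sR 0)) (wprod g0 (wordAt sR 3)) :=
  M0.nconj c0L _ _ [[0],[0,0],[1]] [[3,6,0,4,1,6,1,3,6,2,1,1],[4,0,4,6,3,6,3,1,4,0,4,6],[1,2,1,3,0,6,4,0,6,0,4,6,4],[2,1,6,2,6,3,3,6,1,2,4,2,0],[1,2,1,6,2,0,0,2,6,1,6,2,1,6],[1,6,1,1,4,6,4,3,0,6,1,4,2,6,0],[1,3,3,4,2,0,3,6,2,1,1,3,6,4]] 1 9 c0Z
    (.br 0 [[2],[4],[8],[10],[12]] [4,0,1,2,4,2,3] (Bt.ofL [(321, [], (.br 0 [[10],[2,12,2]] [0,0,1,0,0,1] (Bt.ofL [(108, [], (.br 0 [] [] (Bt.ofL [(328, [], (.br 0 [[0],[2,7],[2,4,9,9]] [0,0,1,1,2,1,1] (Bt.deads [[88,0,0,0],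
 [239,0,0,0,2,0,3,1,3,3,1]] .nil))),
 (36, [0,2,0,2,0,2,0,2], (.br 0 [[0],[2,7],[2,13,2,11,6,12,2],[12,2,7,13]] [0,0,3,1,1,3,2,2,1,1,3] (Bt.deads [[112,0,0,0]] .nil)))]))),
 (101, [2,6,3,1,6,3,4,2,6,0,4,2,6,3], (.br 0 [[4,9,12]] [0] (Bt.ofL [(106, [], (.br 0 [[0],[2,7],[2,12,2],[12,2,7,13]] [0,0,1,2,1,2,3,1,1] (Bt.deads [[97,0,0,0]] .nil)))])))]))),
 (328, [4,0,6], (.br 0 [[2],[4],[6],[8],[11,13],[12,2,13]] [0,1,3,2,1,5,4,4] (Bt.ofL [(108, [], (.br 0 [[2,8,11,13,2,11,13,8,6,6,8,2]] [0] (Bt.ofL [(36, [], (.br 0 [[0],[2,7],[2,6,9,11,13,0,2,6,9,11,13],[12,2,7,13]] [0,0,1,1,3,3,2,2] (Bt.deads [[28,0,0,0]] .nil)))]))),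
 (342, [3,6,2,0,2,2,0,2,1,3,3,6,2], (.br 0 [] [] (Bt.ofL [(101, [], (.br 0 [[0],[2],[4],[6],[8]] [0,1,3,4,3,0,1,2,3,4] (Bt.deads [[132,0,0,0]] .nil))),
 (362, [0,2,0,2,0,2,0,2], (.br 0 [[0],[4],[6],[8]] [0,3,0,2,3,2,1,3,2,1] (Bt.deads [[52,0,0,0]] .nil)))])))])))])) (by decide +kernel) (by decide +kernel)
theorem n04 : ¬ IsConj (wprod g0 (wordAt sR 0)) (wprod g0 (wordAt sR 4)) :=
  M0.nconj c0L _ _ [[0],[0,0],[1]] [[6,4,0,0,3,6,1,1,2,1,3,4,3,6,4,1],[0,0,0,4,6,0,2,0,3,1,4,2,6,3,1],[2,6,2,1,1,2,2,6,1,2,1,2,0,0],[2,6,1,4,2,6,3,0,4,0,0,3,0,4,6],[0,0,3,4,6,1,1,6,2,0,0,0,6]] 1 9 c0Z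
    (.br 0 [[2],[4],[6],[8]] [0,1,3,2,2] (Bt.ofL [(321, [], (.br 0 [[6,2],[8,3]] [1,0,0,1,0] (Bt.ofL [(108, [], (.br 0 [[8,3]] [0] (Bt.ofL [(328, [], (.br 0 [[0],[6,2],[4,4],[9,4,2]] [0,0,1,2,3,1,2,1,2] (Bt.ofL [(88, [], (.step 0 0 [1,4,0,0,2,0,4,6,3,6,1,2,1,1,2,0,2,4,0,6,2,4,2,0] (.dead 0 0 0)))])))]))),
 (36, [4,1,2,6,4,1,2,6,2,6,3], (.br 0 [] [] (Bt.ofL [(108, [], (.br 0 [[0],[6,2],[9,4,2]] [0,0,1,2,1,2,1,2,1] (Bt.deads [[299,0,0,0]] .nil))),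
 (328, [0,2,0,2,0,2,0,2], (.br 0 [[0],[6,2],[4,4],[9,4,2]] [0,0,1,2,3,2,1,1,2] (Bt.ofL [(266, [], (.step 0 0 [6,2,6,0,6,1,3,0,6,1,2,6,3,3,0,4,2,6,3,4,1,2,6,1,2,0,2,4,0,6,2,4,2,0] (.dead 0 0 0)))])))]))),
 (106, [6,3,6,3,4,2,6,0,3,6,2], (.br 0 [] [] (Bt.ofL [(101, [], (.br 0 [[0],[4,4],[8,4,2,8],[8,5,2,8]] [0,0,3,1,1,2,3,2] (Bt.deads [[154,0,0,0],
 [165,0,0,0,1,3,4,3,6,1,4,3,1,3,0,4,1,6,3,4,2,6,0]] (Bt.ofL [(331, [0,6,0,6,1,2,4,3,1,6,3,4,2,6,0,4], (.step 0 0 [4,1,2,0,6,3,1,6,2,6,3,4,6,1,2,0,2,4,0,6,2,4,2,0] (.dead 0 0 0)))])))),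
 (47, [0,2,0,2,0,2,0,2], (.br 0 [[0],[4,4],[8,4,2,8]] [0,0,1,1,2,1,1,2] (Bt.deads [[113,0,0,0,0,6,0,6,1,2,4,3],
 [180,0,0,0,0,6,0,6,1,2,4,3,1,6,3,4,2,6,0,4]] (Bt.ofL [(195, [], (.step 0 0 [1,4,0,0,2,0,4,6,3,6,1,2,1,1,3,4,3,6,1,4,3,1,3,0] (.dead 0 0 0)))]))))])))]))),
 (108, [2,6,2,2], (.br 0 [[2],[4],[6],[8]] [0,1,3,2,3] (Bt.ofL [(258, [2,6,3], (.br 0 [[9,2]] [0] (Bt.ofL [(101, [], (.br 0 [[0],[4,4],[2,8,4,2],[8,8,8,4]] [0,0,2,1,3,1,2,3,1,2] (Bt.ofL [(44, [], (.step 0 0 [6,3,0,4,2,6,3,4,1,2,6,1,2,0,2,4,0,6,2,4,2,2,0,2,4,0,6,2,4,2,0] (.br 1 [[4,4]] [0,0] (Bt.deads [[84,0,0,0],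
 [134,0,0,0,0,3,0,6,2,6,4,1,3,1,1,4,0]] .nil))))])))])))])))])) (by decide +kernel) (by decide +kernel)
theorem n05 : ¬ IsConj (wprod g0 (wordAt sR 0)) (wprod g0 (wordAt sR 5)) :=
  M0.nconj c0L _ _ [[0],[0,0],[1]] [[6,0,4,3,6,0,4,0,3,1,2,4,2,4],[1,3,6,2,4,1,3,0,0,6,4,0,4,1],[1,4,6,1,2,0,4,0,6,4,1,4,1,2,1],[4,0,4,6,0,6,2,1,6,4,6,4,2,4,0]] 1 9 c0Z
    (.br 0 [[2],[4],[6]] [1,2,0,2,1] (Bt.ofL [(321, [], (.br 0 [[2],[6,2,4]] [0,0,1,0,0] (Bt.ofL [(108, [], (.br 0 [[6,2,4]] [0] (Bt.ofL [(328, [], (.br 0 [[0],[2],[5,7,3,4],[6,6,4,4]] [0,1,0,1,2,3,2,3] (Bt.ofL [(88, [], (.step 0 0 [6,3,0,4,2,6,3,4,1,2,6,1,2,0,2,4,0,6,2,4,2,0] (.dead 0 0 0)))])))]))),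
 (36, [4,1,2,6,4,1,2,6,2,6,3], (.br 0 [] [] (Bt.ofL [(108, [], (.br 0 [[0],[2],[5,7,3,4],[6,6,4,4]] [0,1,0,1,2,3,1,1,2] (Bt.deads [[299,0,0,0]] .nil))),
 (328, [0,2,0,2,0,2,0,2], (.br 0 [[0],[2],[5,7,3,4],[6,6,4,4]] [0,1,0,1,2,3,2,3] (Bt.ofL [(266, [], (.step 0 0 [0,3,0,6,2,6,4,1,3,1,1,4,2,0,2,4,0,6,2,4,2,0] (.dead 0 0 0)))])))]))),
 (106, [6,3,6,3,4,2,6,0,3,6,2], (.br 0 [] [] (Bt.ofL [(101, [], (.br 0 [[0],[5,3,7,2],[4,4,4,4],[6,5,6,5]] [0,0,1,3,2,1,3,1] (Bt.deads [[154,0,0,0],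
 [166,0,0,0,2,4,3,0,6,1,6,3,0,6,2,6,4,1,3,1,1,4,0,0,2,2,0,2,1,3]] (Bt.ofL [(77, [0,6,0,6,1,2,4,0,3,1,3,3,1], (.step 0 0 [1,3,4,3,6,1,4,3,1,3,0] (.dead 0 0 0)))])))),
 (47, [0,2,0,2,0,2,0,2], (.br 0 [[0],[5,3,7,2],[4,4,4,4],[6,5,6,5]] [0,0,2,1,2,3,2,1] (Bt.deads [[332,0,0,0,2,0,3,1,3,3,1,1,6,3,4,2,6,0,4],
 [338,0,0,0,4,1,6,3,4,2,6,0,2,4,3,0,6,1,6,1]] (Bt.ofL [(195, [], (.step 0 0 [6,3,0,4,2,6,3,4,1,2,6,1,2,0,2,4,0,6,2,4,2,2,0,2,4,0,6,2,4,2,0] (.dead 0 0 0)))]))))])))]))),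
 (108, [2,6,2,2], (.br 0 [[2],[4],[6]] [0,1,2,0,2] (Bt.ofL [(258, [2,6,3], (.br 0 [[4,4]] [0] (Bt.ofL [(101, [], (.br 0 [[0],[7,3],[2,5,2],[5,2,4]] [0,0,1,2,1,3,3,1] (Bt.ofL [(44, [], (.step 0 0 [1,4,0,0,2,0,4,6,3,6,1,2,1,1,3,4,3,6,1,4,3,1,3,0] (.br 1 [[6,5,7,2,7,2]] [0,0] (Bt.deads [[15,0,0,0],
 [29,0,0,0,0,3,0,6,2,6,4,1,3,1,1,4,0]] .nil))))])))])))])))])) (by decide +kernel) (by decide +kernel)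
theorem n06 : ¬ IsConj (wprod g0 (wordAt sR 0)) (wprod g0 (wordAt sR 6)) :=
  M0.nconj c0L _ _ [[0],[0,0],[1]] [[0,4,1,4,6,1,1,2,0,4,3,6,2,0],[1,2,0,4,0,3,6,1,4,1,1,3,0,4,3],[1,3,0,0,6,1,1,2,0],[3,0,3,0,6,2,0,6,1,4,6,4,6],[6,0,3,1,2,1,4,3,4,2,0,6,4,3],[0,3,4,3,6,2,4,6,3,0,4,2,0,4],[3,6,3,4,2,0,0,3,1,4,1,4,1,6,3],[4,6,2,1,3,1,2,2,1,3,0,6,0,3]] 1 9 c0Z
    (.br 0 [[2],[4],[6],[8],[14]] [0,2,3,4,1,2,4,0] (Bt.ofL [(321, [], (.br 0 [[2,4],[2,12,9],[15,2,14]] [1,0,2,0,1,1] (Bt.ofL [(108, [], (.br 0 [] [] (Bt.ofL [(328, [], (.br 0 [[0],[2,4],[6,15,12]] [0,0,2,1,2,1,2,2] (Bt.deads [[88,0,0,0],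
 [80,0,0,0,1,4,0,0,2,0,4,6,3,6,1,2,2,2,0,2,1,3]] .nil))),
 (36, [0,2,0,2,0,2,0,2], (.br 0 [[0],[2,4],[2,8,6],[6,15,12]] [0,0,1,2,3,1,3,2,1] (Bt.ofL [(112, [], (.step 0 0 [6,4,0,6,2,4,3,6,1,4,6] (.dead 0 0 0)))])))]))),
 (230, [4,1,2,6,3,6,2,2,6,3], (.br 0 [] [] (Bt.ofL [(40, [], (.br 0 [[0],[11,7,15],[12,4,12]] [0,0,1,2,1,2,1,2,1] (Bt.deads [[320,0,0,0,0,2,2,0,2,1,3]] (Bt.ofL [(50, [], (.step 0 0 [1,3,4,3,6,1,4,3,1,3,0,0,3,0,6,2,6,4,1,3,1,1,4,2,0,2,4,0,6,2,4,2,0] (.dead 0 0 0)))])))),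
 (302, [0,2,0,2,0,2,0,2], (.br 0 [[0],[11,7,15],[12,4,12],[0,6,15,12]] [0,0,2,1,3,2,3,3] (Bt.deads [[339,0,0,0]] (Bt.ofL [(343, [2,0,3,1,3,3,1,1,6,3,4,2,6,0,4], (.step 0 0 [1,4,0,0,2,0,4,6,3,6,1,2,1,1,3,4,3,6,1,4,3,1,3,0] (.dead 0 0 0)))]))))]))),
 (328, [6,3,0,4,0,6,0,6,1,2,4,3,3,6,2], (.br 0 [[2,12,9]] [0] (Bt.ofL [(108, [], (.br 0 [[0],[2,4],[2,8,6],[6,15,12]] [0,0,1,2,3,2,3,2,3] (Bt.ofL [(107, [], (.step 0 0 [1,4,0,0,2,0,4,6,3,6,1,2,1,1,3,4,3,6,1,4,3,1,3,0] (.dead 0 0 0)))])))])))]))),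
 (328, [4,0,6], (.br 0 [[4],[6],[8],[10],[12]] [0,1,2,4,0,2,3] (Bt.ofL [(108, [], (.br 0 [[2,12,12]] [0] (Bt.ofL [(36, [], (.br 0 [[0],[2,4],[2,8,6],[6,15,12]] [0,0,2,3,1,2,3,1,2,1,2] (Bt.ofL [(28, [], (.step 0 0 [6,2,6,0,6,1,3,0,6,1,2,6,3,3,0,4,2,6,3,4,1,2,6,1,2,0,2,4,0,6,2,4,2,0] (.br 1 [[2,4],[14,13,7,14]] [0,1,0] (Bt.ofL [(297, [], (.br 1 [[9,10,6,12]] [0,0] (Bt.deads [[236,0,0,0]] .nil)))]))))])))])))])))])) (by decide +kernel) (by decide +kernel)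
def c1C : List Lvl := [⟨36, [[0],[2],[4],[6]], [0,1,2,0,1,0,2,1,3,0,1,0,0], 364⟩,
  ⟨108, [[0,6,1],[0,2,0,6]], [0,1,0,1,0,1,0,1,1,0,1,0,1,1,0,1,0], 120⟩,
  ⟨328, [[3,1,4,0,2]], [0], 2⟩,
  ⟨153, [[0,2,2,0,2,1,3],[0,6,0,6,1,2,4,3],[1,6,3,4,2,6,0,4]], [0,1,2,0,1,0,1,1,0,0], 81⟩,
  ⟨160, [[0,0,6,2,6,3,6,1,1],[2,1,3,0,6,1,2,0,6,3],[4,1,4,2,4,1,2,2,6,4]], [0,1,2,0,1,1,0], 36⟩,
  ⟨317, [[6,1,3,1,1,2,4,3,4,2,6],[0,0,3,6,2,0,6,0,4,1,6,2]], [0,1,0,1], 9⟩,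
  ⟨307, [[1,4,6,0,3,0,3,3,1,1,4,3,4,2]], [0], 2⟩]
def c1M : List (List Nat) := [[0xd42e0d2e90224884222150cc14c808821c052a32a8d7c406000803a800bf7415631b02009080a509b8819af0204],
  [0x10200000000000000000000000000000000000000000000000000000000000000000000000000000000],
  [0x201008008948272044202006214e40820a000041020104158b124025a4000c2108031da0e4a4022007a0504000],
  [0x8000600400000060004400000000041000000008b1040252000082108001c208004020004a0500000],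
  [0x80000020000000010000000000000000000800180000000000000011000000000000000800000000000000, 0x2000000000000000000000000000000000],
  [0x80000000000000000000000000001000000000000000000000000000000000000000000000000],
  []]
def c1Z : List Nat := [0xfffffffffffffffffffffffffffffffffffffffffffffffffffffffffffffffffffffffffffffffffffffffffff]
theorem c1L : LvOk G0 (finPt 364) 364 [] (mkLV c1C c1M) := M0.lvOk c1C 9 c1M (by decide +kernel) (by decide +kernel)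
theorem n12 : ¬ IsConj (wprod g0 (wordAt sR 1)) (wprod g0 (wordAt sR 2)) :=
  M0.nconj c1L _ _ [[0],[0,0],[1]] [[1,1,1,3,0,2,1,2,6,3,6,0,2,1,3],[0,6,1,3,3,0,3,0,6,0,4,0,2,0,4],[4,1,4,6,0,6,2,0,6,1,6,2,4],[2,0,3,0,4,6,0,2,4,3,1,4,6,3,1],[4,2,6,2,0,4,6,4,1,3,6,3,4],[2,0,4,3,1,6,3,1,1,3,1],[6,3,0,4,0,3,1,6,0,6,1,2,4,3]] 1 9 c1Z
    (.br 0 [[4],[6],[8],[10],[12]] [0,2,3,4,0,2,3,1] (Bt.ofL [(36, [], (.br 0 [[6,10]] [0] (Bt.ofL [(108, [], (.br 0 [] [] (Bt.ofL [(328, [], (.br 0 [[0],[2],[4,6],[8,4,11]] [0,1,0,2,3,1,2] (Bt.deads [[153,0,0,0],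
 [150,0,0,0,4,1,6,3,4,2,6,0]] .nil))),
 (321, [3,1,4,0,2], (.br 0 [[0],[2],[4,6],[8,4,11],[4,13,2,12,4]] [0,1,0,2,3,1,4,2,3,1,2,3] (Bt.deads [[48,0,0,0]] .nil)))]))),
 (328, [0,6,2,2,0,2,1,3,0,2,0,6,0,6,1], (.br 0 [[6,10]] [0] (Bt.ofL [(321, [], (.br 0 [[0],[2],[4,6],[8,4,11],[4,13,2,12,4]] [0,0,2,3,1,2,4,3,2,3] (Bt.deads [[281,0,0,0]] .nil)))])))]))),
 (328, [0,0,0], (.br 0 [[2],[4],[6],[10],[12]] [0,1,4,3,2,4,0] (Bt.ofL [(227, [0,2,0,6,0,2,0,6,0,2,0,6], (.br 0 [[12,6,10,13]] [0] (Bt.ofL [(339, [], (.br 0 [[0],[2,4,7],[2,10,7],[7,10,12],[4,8,4],[0,2,7,13,4]] [0,0,1,2,3,4,3,2,5] (Bt.deads [[245,0,0,0]] .nil)))])))])))])) (by decide +kernel) (by decide +kernel)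
theorem n13 : ¬ IsConj (wprod g0 (wordAt sR 1)) (wprod g0 (wordAt sR 3)) :=
  M0.nconj c1L _ _ [[0],[0,0],[1]] [[3,6,0,4,1,6,1,3,6,2,1,1],[4,0,4,6,3,6,3,1,4,0,4,6],[1,2,1,3,0,6,4,0,6,0,4,6,4],[2,1,6,2,6,3,3,6,1,2,4,2,0],[1,2,1,6,2,0,0,2,6,1,6,2,1,6],[1,6,1,1,4,6,4,3,0,6,1,4,2,6,0],[1,3,3,4,2,0,3,6,2,1,1,3,6,4]] 1 9 c1Z
    (.br 0 [[2],[4],[8],[10],[12]] [4,0,1,2,4,2,3] (Bt.ofL [(36, [], (.br 0 [[2,6,4],[4,9,10],[4,10,4],[12,10,13]] [3,1,2,0] (Bt.ofL [(108, [], (.br 0 [] [] (Bt.ofL [(328, [], (.br 0 [[0],[2,7],[2,4,9,9]] [0,0,1,1,2,1,1] (Bt.deads [[14,0,0,0,1,6,3,4,2,6,0,4,2,0,3,1,3,3,1],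
 [20,0,0,0,4,1,6,3,4,2,6,0,2,4,3,0,6,1,6,1]] .nil))),
 (321, [3,1,4,0,2], (.br 0 [[0],[2,7],[2,4,9,9],[4,10,4,2,6,4,11,12,10]] [0,0,1,1,2,1,1,3,3] (Bt.deads [[48,0,0,0]] .nil)))]))),
 (342, [0,6,0,6,1,2,4,3,6,1,3,6,1], (.br 0 [[2,6,4]] [0] (Bt.ofL [(47, [], (.br 0 [[0],[2,7],[4,10,4],[8,10,9]] [0,0,1,2,1,2,1,3,1] (Bt.deads [[34,0,0,0]] .nil)))])))]))),
 (342, [4], (.br 0 [[2],[4],[8],[10],[12,2,13]] [3,0,1,2,1,4,0,3] (Bt.ofL [(153, [0,6,1,6,1,3,6,1], (.br 0 [[12,2,9,13]] [0] (Bt.ofL [(309, [], (.br 0 [[0],[4,7],[7,10,6]] [0,0,1,2,1,2,1,2,2] (Bt.deads [[183,0,0,0]] .nil)))]))),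
 (101, [0,6,0,6,1,2,4,3,0,6,1], (.br 0 [] [] (Bt.ofL [(362, [], (.br 0 [[0],[2],[4],[6],[8]] [0,1,2,4,0,2,3,4,3,4] (Bt.deads [[267,0,0,0]] .nil))),
 (328, [3,1,4,0,2], (.br 0 [[0],[2],[4],[6],[8]] [0,1,3,4,3,0,4,2,3,2] (Bt.deads [[301,0,0,0]] .nil)))])))])))])) (by decide +kernel) (by decide +kernel)
theorem n14 : ¬ IsConj (wprod g0 (wordAt sR 1)) (wprod g0 (wordAt sR 4)) :=
  M0.nconj c1L _ _ [[0],[0,0],[1]] [[6,4,0,0,3,6,1,1,2,1,3,4,3,6,4,1],[0,0,0,4,6,0,2,0,3,1,4,2,6,3,1],[2,6,2,1,1,2,2,6,1,2,1,2,0,0],[2,6,1,4,2,6,3,0,4,0,0,3,0,4,6],[0,0,3,4,6,1,1,6,2,0,0,0,6]] 1 9 c1Z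
    (.br 0 [[2],[6],[8]] [0,2,0,1,0] (Bt.ofL [(36, [], (.br 0 [[4],[6,2],[9,2]] [0,1,1,2] (Bt.ofL [(108, [], (.br 0 [[4]] [0] (Bt.ofL [(328, [], (.br 0 [[0],[6,2],[4,4],[9,4,2]] [0,0,1,2,3,2,1,1,2] (Bt.ofL [(153, [], (.step 0 0 [4,1,4,2,4,1,2,2,6,1,4,2,4,1,2,2,6,4,2,1,3,0,6,1,2,0,6,3] (.br 0 [[8,6,4,9],[4,8,7,8,2,0]] [0,1,0,1] (Bt.deads [[128,0,0,0]] .nil))))])))]))),
 (342, [0,6,0,6,1,2,4,3,6,1,3,6,1], (.br 0 [] [] (Bt.ofL [(47, [], (.br 0 [[0],[9,2],[4,4]] [0,0,1,2,1,2,1,2,2] (Bt.deads [[267,0,0,0,1,6,3,4,2,6,0,4,2,0,3,1,3,3,1],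
 [137,0,0,0,2,0,3,1,3,3,1]] (Bt.ofL [(34, [], (.step 0 0 [1,4,6,0,3,0,3,3,1,1,4,3,4,2,4,1,4,2,4,1,2,2,6,4,0,0,6,2,6,3,6,1,1] (.dead 0 0 1)))])))),
 (258, [3,1,4,0,2], (.br 0 [[0],[9,2],[4,4]] [0,0,1,2,1,2,1,2,2] (Bt.deads [[303,0,0,0,4,1,4,2,4,1,2,2,6,4,2,4,3,0,6,1,6,1],
 [6,0,0,0,0,6,0,6,1,2,4,0,3,1,3,3,1]] (Bt.ofL [(66, [], (.step 0 0 [4,6,3,3,0,4,3,4,0,4] (.dead 0 0 1)))]))))]))),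
 (328, [0,6,2,2,0,2,1,3,0,2,0,6,0,6,1], (.br 0 [] [] (Bt.ofL [(321, [], (.br 0 [[0],[6,2],[4,4],[9,4,2]] [0,0,1,2,1,2,3,1,1] (Bt.ofL [(281, [], (.step 0 0 [2,6,1,3,0,6,1,2,0,3,4,6,3,3,0,4,3,4,0,4] (.dead 0 0 1)))]))),
 (108, [3,1,4,0,2], (.br 0 [[0],[6,2],[9,4,2]] [0,0,1,2,1,2,1,2,1] (Bt.deads [[313,0,0,0]] .nil)))])))]))),
 (108, [6,0,2,6,0], (.br 0 [[2],[4],[6],[8]] [1,2,3,2,0] (Bt.ofL [(106, [0,2,2,0,2,1,3,0,2,0,6], (.br 0 [[4,8,4]] [0] (Bt.ofL [(122, [], (.br 0 [[0],[2],[4,4],[8,8],[6,9,6]] [0,0,2,3,4,1,3,4,3] (Bt.ofL [(7, [], (.step 0 0 [4,6,3,3,0,4,3,4,0,4,2,1,3,0,6,1,2,0,6,3] (.dead 0 0 1)))])))])))])))])) (by decide +kernel) (by decide +kernel)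
theorem n15 : ¬ IsConj (wprod g0 (wordAt sR 1)) (wprod g0 (wordAt sR 5)) :=
  M0.nconj c1L _ _ [[0],[0,0],[1]] [[6,0,4,3,6,0,4,0,3,1,2,4,2,4],[1,3,6,2,4,1,3,0,0,6,4,0,4,1],[1,4,6,1,2,0,4,0,6,4,1,4,1,2,1],[4,0,4,6,0,6,2,1,6,4,6,4,2,4,0]] 1 9 c1Z
    (.br 0 [[2],[4],[6]] [1,2,0,1,0,0] (Bt.ofL [(36, [], (.br 0 [[2],[7,2,5]] [0,0,1,0,0] (Bt.ofL [(108, [], (.br 0 [[7,2,5]] [0] (Bt.ofL [(328, [], (.br 0 [[0],[2],[5,7,3,4],[6,6,4,4]] [0,1,0,1,2,3,2,3] (Bt.ofL [(153, [], (.step 0 0 [4,6,3,3,0,4,3,4,0,4,2,1,3,0,6,1,2,0,6,3] (.br 0 [[4,4,4,4,2],[6,3,7,3,6]] [0,1,0,1] (Bt.deads [[159,0,0,0]] .nil))))])))]))),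
 (106, [0,2,0,6,0,2,0,6,0,2,0,6], (.br 0 [] [] (Bt.ofL [(186, [], (.br 0 [[0],[4,4,4,4],[7,4,6,5],[5,6,3,4,2]] [0,0,2,1,3,1,1,2] (Bt.deads [[210,0,0,0,1,6,3,4,2,6,0,4,2,0,3,1,3,3,1],
 [238,0,0,0,0,0,6,2,6,3,6,1,2,2,0,2,1,3]] (Bt.ofL [(354, [], (.step 0 0 [4,6,3,3,0,4,3,4,0,4,0,0,6,2,6,3,6,1,1,2,1,3,0,6,1,2,0,6,3] (.dead 0 0 1)))])))),
 (362, [3,1,4,0,2], (.br 0 [[0],[4,4,4,4],[7,4,6,5],[5,6,3,4,2]] [0,0,1,2,1,2,3,1] (Bt.deads [[329,0,0,0,4,1,6,3,4,2,6,0,2,4,3,0,6,1,6,1],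
 [240,0,0,0,0,6,0,6,1,2,4,0,3,1,3,3,1]] (Bt.ofL [(48, [], (.step 0 0 [4,1,4,2,4,1,2,2,6,1,4,2,4,1,2,2,6,4,2,1,3,0,6,1,2,0,6,3] (.dead 0 0 1)))]))))]))),
 (328, [0,6,2,2,0,2,1,3,0,2,0,6,0,6,1], (.br 0 [] [] (Bt.ofL [(321, [], (.br 0 [[0],[2],[5,7,3,4],[6,6,4,4]] [0,1,0,1,2,3,1,1,2] (Bt.ofL [(281, [], (.step 0 0 [6,1,3,1,1,2,4,3,4,2,6,0,0,6,2,6,3,6,1,1] (.dead 0 0 1)))]))),
 (108, [3,1,4,0,2], (.br 0 [[0],[2],[5,7,3,4],[6,6,4,4]] [0,1,0,1,2,3,1,1,2] (Bt.deads [[313,0,0,0]] .nil)))])))]))),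
 (108, [6,0,2,6,0], (.br 0 [[2],[4],[6]] [0,1,2,0,2] (Bt.ofL [(106, [0,2,2,0,2,1,3,0,2,0,6], (.br 0 [[5,2]] [0] (Bt.ofL [(122, [], (.br 0 [[0],[4,2],[2,7,2]] [0,0,1,2,1,2,1,2,1] (Bt.ofL [(7, [], (.step 0 0 [6,1,3,1,1,2,4,3,4,2,6,0,0,6,2,6,3,6,1,1,2,6,1,3,0,6,1,2,0,3] (.dead 0 0 1)))])))])))])))])) (by decide +kernel) (by decide +kernel)
theorem n16 : ¬ IsConj (wprod g0 (wordAt sR 1)) (wprod g0 (wordAt sR 6)) :=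
  M0.nconj c1L _ _ [[0],[0,0],[1]] [[0,4,1,4,6,1,1,2,0,4,3,6,2,0],[1,2,0,4,0,3,6,1,4,1,1,3,0,4,3],[1,3,0,0,6,1,1,2,0],[3,0,3,0,6,2,0,6,1,4,6,4,6],[6,0,3,1,2,1,4,3,4,2,0,6,4,3],[0,3,4,3,6,2,4,6,3,0,4,2,0,4],[3,6,3,4,2,0,0,3,1,4,1,4,1,6,3],[4,6,2,1,3,1,2,2,1,3,0,6,0,3]] 1 9 c1Z
    (.br 0 [[2],[4],[6],[8],[12]] [0,2,3,4,2,3,1] (Bt.ofL [(36, [], (.br 0 [[2,4],[2,14,2],[15,2,14],[2,10,4,11]] [1,0,2,0,3] (Bt.ofL [(108, [], (.br 0 [] [] (Bt.ofL [(328, [], (.br 0 [[0],[2,4],[6,15,12]] [0,0,2,1,2,1,2,2] (Bt.deads [[153,0,0,0],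
 [309,0,0,0,0,0,6,2,6,3,6,1,2,2,0,2,1,3]] .nil))),
 (321, [3,1,4,0,2], (.br 0 [[0],[2,4],[2,8,6],[6,15,12],[15,2,14]] [0,0,2,4,1,2,3,1,2] (Bt.ofL [(48, [], (.step 0 0 [2,6,1,3,0,6,1,2,0,3] (.dead 0 0 1)))])))]))),
 (2, [0,6,2,0,6,0,6,1], (.br 0 [] [] (Bt.ofL [(41, [], (.br 0 [[0],[7,15,11],[4,14,2,7,9,2,6,15,12],[0,2,8,8,6,14]] [0,0,1,1,2,3,3] (Bt.deads [[88,0,0,0,2,0,3,1,3,3,1,2,4,3,0,6,1,6,1]] (Bt.ofL [(119, [1,6,3,4,2,6,0,4,2,0,3,1,3,3,1], (.step 0 0 [2,6,1,3,0,6,1,2,0,3,0,0,6,2,6,3,6,1,1,2,1,3,0,6,1,2,0,6,3] (.dead 0 0 1)))])))),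
 (121, [3,1,4,0,2], (.br 0 [[0],[4,8,6],[7,15,11],[2,14,8,6,2,4,13,14,7,4,8,6]] [0,0,2,1,2,1,3] (Bt.deads [[33,0,0,0]] (Bt.ofL [(287, [1,6,3,4,2,6,0,4,2,0,3,1,3,3,1], (.step 0 0 [4,6,3,3,0,4,3,4,0,6,3,3,0,4,3,4,0,4] (.dead 0 0 1)))]))))]))),
 (328, [0,6,2,2,0,2,1,3,0,2,0,6,0,6,1], (.br 0 [[2,14,2]] [0] (Bt.ofL [(321, [], (.br 0 [[0],[2,4],[2,8,6],[6,15,12]] [0,0,1,2,2,3,1,2,3,1,2] (Bt.ofL [(281, [], (.step 0 0 [4,6,3,3,0,4,3,4,0,4] (.br 0 [[8,2,9],[14,2,15],[0,6,15,12]] [1,2,2,0,1] (Bt.deads [[110,0,0,0]] .nil))))])))])))]))),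
 (328, [0,0,0], (.br 0 [[4],[6],[12],[14]] [0,1,2,3,1,0,2] (Bt.ofL [(222, [], (.br 0 [[2,8,2]] [0] (Bt.ofL [(189, [], (.br 0 [[0],[6,6],[8,10],[2,6,14]] [0,0,2,3,2,1,2,3,2] (Bt.ofL [(198, [], (.step 0 0 [2,6,1,3,0,6,1,2,0,3,4,6,3,3,0,4,3,4,0,4] (.dead 0 0 1)))])))])))])))])) (by decide +kernel) (by decide +kernel)
def c2C : List Lvl := [⟨334, [[0],[2],[4],[6]], [0,1,2,0,3,1,2,0,1,2,3,0], 364⟩,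
  ⟨351, [[0,0,6,1,1],[0,2,1,6,0]], [0,1,0,1,1,0,1,1,0,1,0,1,0,1,1,1,0,1,0,1], 243⟩,
  ⟨259, [[0,6,2,6,2,1,6],[4,6,4,6,4,6,4],[0,2,1,2,2,1,2,1]], [0,1,2,0,2,0,1,2,0], 72⟩,
  ⟨33, [[0,0,0,3,6,3,4,1,3,0],[0,2,0,0,2,6,0,2,4,1,3],[0,3,6,2,4,3,1,6,1,3,4]], [0,2,1,2,0,2,2], 20⟩,
  ⟨104, [[2,0,0,4,3,6,4,1,3,4,2,4,2],[4,2,6,2,0,4,6,4,1,3,6,3,4],[0,2,6,4,0,2,0,2,2,0,3,0,4,2]], [0,1,2,0], 9⟩,
  ⟨202, [[4,1,4,6,0,6,2,0,6,1,6,2,4]], [0], 2⟩,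
  ⟨339, [[0,6,1,3,3,0,3,0,6,0,4,0,2,0,4]], [0], 2⟩]
def c2M : List (List Nat) := [[0xdf3debaaffbbdfe6f61ffaefe4bf44e437cffdae67fee3d3f3533897f63dd273eb4e6c7e3befffd146f3e7d1fb8],
  [0x80054180102908a05012802000a004e00381e002200800d14201081100011013000048600b25408004320010c98],
  [],
  [],
  [],
  [],
  []]
def c2Z : List Nat := [0xfffffffffffffffffffffffffffffffffffffffffffffffffffffffffffffffffffffffffffffffffffffffffff]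
theorem c2L : LvOk G0 (finPt 364) 364 [] (mkLV c2C c2M) := M0.lvOk c2C 9 c2M (by decide +kernel) (by decide +kernel)
theorem n23 : ¬ IsConj (wprod g0 (wordAt sR 2)) (wprod g0 (wordAt sR 3)) :=
  M0.nconj c2L _ _ [[0],[0,0],[1]] [[3,6,0,4,1,6,1,3,6,2,1,1],[4,0,4,6,3,6,3,1,4,0,4,6],[1,2,1,3,0,6,4,0,6,0,4,6,4],[2,1,6,2,6,3,3,6,1,2,4,2,0],[1,2,1,6,2,0,0,2,6,1,6,2,1,6],[1,6,1,1,4,6,4,3,0,6,1,4,2,6,0],[1,3,3,4,2,0,3,6,2,1,1,3,6,4]] 1 9 c2Z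
    (.br 0 [[0],[2],[6],[8],[10],[12]] [0,1,2,5,3,5,2,4,5,3,5,0] (Bt.deads [[334,0,0,0]] .nil)) (by decide +kernel) (by decide +kernel)
theorem n24 : ¬ IsConj (wprod g0 (wordAt sR 2)) (wprod g0 (wordAt sR 4)) :=
  M0.nconj c2L _ _ [[0],[0,0],[1]] [[6,4,0,0,3,6,1,1,2,1,3,4,3,6,4,1],[0,0,0,4,6,0,2,0,3,1,4,2,6,3,1],[2,6,2,1,1,2,2,6,1,2,1,2,0,0],[2,6,1,4,2,6,3,0,4,0,0,3,0,4,6],[0,0,3,4,6,1,1,6,2,0,0,0,6]] 1 9 c2Z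
    (.br 0 [[0],[2],[4],[6],[8]] [0,1,2,4,1,4,3,2,4,3,1,0] (Bt.deads [[347,0,0,0,2,0]] (Bt.ofL [(334, [], (.step 0 0 [6,0,3,6,3,6,0,6,1,1] (.dead 0 0 0)))]))) (by decide +kernel) (by decide +kernel)
theorem n25 : ¬ IsConj (wprod g0 (wordAt sR 2)) (wprod g0 (wordAt sR 5)) :=
  M0.nconj c2L _ _ [[0],[0,0],[1]] [[6,0,4,3,6,0,4,0,3,1,2,4,2,4],[1,3,6,2,4,1,3,0,0,6,4,0,4,1],[1,4,6,1,2,0,4,0,6,4,1,4,1,2,1],[4,0,4,6,0,6,2,1,6,4,6,4,2,4,0]] 1 9 c2Z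
    (.br 0 [[0],[2],[4],[6]] [0,1,2,3,1,2,3,2,1,0,2,2] (Bt.deads [[338,0,0,0,4,2]] (Bt.ofL [(334, [], (.step 0 0 [2,0,0,4,3,6,4,1,3,4,2,4,2,0,0,6,1,1] (.dead 0 0 0)))]))) (by decide +kernel) (by decide +kernel)
theorem n26 : ¬ IsConj (wprod g0 (wordAt sR 2)) (wprod g0 (wordAt sR 6)) :=
  M0.nconj c2L _ _ [[0],[0,0],[1]] [[0,4,1,4,6,1,1,2,0,4,3,6,2,0],[1,2,0,4,0,3,6,1,4,1,1,3,0,4,3],[1,3,0,0,6,1,1,2,0],[3,0,3,0,6,2,0,6,1,4,6,4,6],[6,0,3,1,2,1,4,3,4,2,0,6,4,3],[0,3,4,3,6,2,4,6,3,0,4,2,0,4],[3,6,3,4,2,0,0,3,1,4,1,4,1,6,3],[4,6,2,1,3,1,2,2,1,3,0,6,0,3]] 1 9 c2Z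
    (.br 0 [[0],[4],[6],[8],[10],[12],[14]] [0,2,3,6,4,1,5,6,2,4,0] (Bt.deads [[14,0,0,0,2,4,2,0]] (Bt.ofL [(334, [], (.step 0 0 [2,0,0,4,3,6,4,1,3,4,2,4,2,0,3,0,3,3,6,0] (.dead 0 0 0)))]))) (by decide +kernel) (by decide +kernel)
def c3C : List Lvl := [⟨195, [[0],[2],[4],[6]], [0,1,2,3,0,1,2,0,3,1,0,1], 364⟩,
  ⟨112, [[3,4,2],[0,0,6,1,1],[0,4,1,3,0]], [0,1,2,0,2,0,1,2,0,1,0,2], 120⟩,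
  ⟨358, [[0,0,2,2,4,2,0,0]], [0], 2⟩,
  ⟨126, [[2,1,6,0,3],[6,4,6,4,6],[0,6,3,4,3,0,2,6],[1,4,6,2,2,6,4,0]], [0,1,2,0,1,2,0,1,3,2], 81⟩,
  ⟨190, [[1,4,1,2,6,0,6,4,1,3],[0,3,1,4,0,6,1,4,0,2,1]], [0,1,0,0,0,0,0,1,0,1,0], 27⟩,
  ⟨227, [[3,3,4,0,3,6,2,1,4,2,2],[1,3,4,3,0,6,2,2,6,3,6,0,3]], [0,1,1], 6⟩,
  ⟨15, [[1,2,1,3,0,6,4,0,6,0,4,6,4]], [0], 2⟩,
  ⟨172, [[4,0,4,6,3,6,3,1,4,0,4,6]], [0], 2⟩]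
def c3M : List (List Nat) := [[0x6aadf604c82d430c554431881e0abd2c444030222401182021950080605901a00600a86c75882f84b2224d401a],
  [],
  [0x2aa8b600800c4204540431080a08a12c444030220401182020850080404900a00000a84c34802b04a202454008],
  [0x1001800000000080000800a080000000080804026080040000010880002002000000010a2040000000000800],
  [0x40000000000000010040000800000000000000000000040000000000000000000000200000000000],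
  [0x800000000000000000000000000000000000000000000000000000000000000],
  [],
  []]
def c3Z : List Nat := [0xfffffffffffffffffffffffffffffffffffffffffffffffffffffffffffffffffffffffffffffffffffffffffff]
theorem c3L : LvOk G0 (finPt 364) 364 [] (mkLV c3C c3M) := M0.lvOk c3C 9 c3M (by decide +kernel) (by decide +kernel)
theorem n34 : ¬ IsConj (wprod g0 (wordAt sR 3)) (wprod g0 (wordAt sR 4)) :=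
  M0.nconj c3L _ _ [[0],[0,0],[1]] [[6,4,0,0,3,6,1,1,2,1,3,4,3,6,4,1],[0,0,0,4,6,0,2,0,3,1,4,2,6,3,1],[2,6,2,1,1,2,2,6,1,2,1,2,0,0],[2,6,1,4,2,6,3,0,4,0,0,3,0,4,6],[0,0,3,4,6,1,1,6,2,0,0,0,6]] 1 9 c3Z
    (.br 0 [[0],[2],[4],[6],[8]] [0,1,2,3,4,1,3,4,2,4,0] (Bt.deads [[195,0,0,0]] (Bt.ofL [(245, [0,6,0], (.step 0 0 [0,4,1,3,0,3,4,2] (.step 0 0 [] (.br 0 [[4,8,3],[7,9,4],[6,2,7],[8,8,8]] [0,1,3,1,2,0,3,0] (Bt.deads [[103,0,0,0]] (Bt.ofL [(39, [0,6,3,4,3,0,2,6], (.step 0 0 [0,3,1,4,0,6,1,4,0,2,1] (.br 0 [[9,5,5,9,9,0]] [0,0,0,0,0] (Bt.deads [[15,0,0,0]] .nil))))]))))))]))) (by decide +kernel) (by decide +kernel)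
theorem n35 : ¬ IsConj (wprod g0 (wordAt sR 3)) (wprod g0 (wordAt sR 5)) :=
  M0.nconj c3L _ _ [[0],[0,0],[1]] [[6,0,4,3,6,0,4,0,3,1,2,4,2,4],[1,3,6,2,4,1,3,0,0,6,4,0,4,1],[1,4,6,1,2,0,4,0,6,4,1,4,1,2,1],[4,0,4,6,0,6,2,1,6,4,6,4,2,4,0]] 1 9 c3Z
    (.br 0 [[0],[2],[4],[6]] [0,1,2,3,1,2,3,2,1,3,2,0] (Bt.deads [[195,0,0,0]] (Bt.ofL [(38, [2,4], (.step 0 0 [0,6,3,4,3,0,2,6,1,2,0,4,1] (.step 0 0 [0,0,2,2,4,2,0,0] (.br 0 [[5,2,4],[4,6,4,3]] [0,1,0,1,0,1,0,1,1,1,1,1] (Bt.deads [[246,0,0,0,2,1,6,0,3,3,3,4,0,3,6,2,1,4,2,2,2,1,6,0,3]] (Bt.ofL [(349, [], (.step 0 0 [1,2,1,3,0,6,4,0,6,0,4,6,4,2,0,4,6,1,6,3,0,4,0] (.br 0 [[5,7,3,5,2]] [0,0,0,0,0] (Bt.deads [[354,0,0,0]] .nil))))]))))))]))) (by decide +kernel) (by decide +kernel)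
theorem n36 : ¬ IsConj (wprod g0 (wordAt sR 3)) (wprod g0 (wordAt sR 6)) :=
  M0.nconj c3L _ _ [[0],[0,0],[1]] [[0,4,1,4,6,1,1,2,0,4,3,6,2,0],[1,2,0,4,0,3,6,1,4,1,1,3,0,4,3],[1,3,0,0,6,1,1,2,0],[3,0,3,0,6,2,0,6,1,4,6,4,6],[6,0,3,1,2,1,4,3,4,2,0,6,4,3],[0,3,4,3,6,2,4,6,3,0,4,2,0,4],[3,6,3,4,2,0,0,3,1,4,1,4,1,6,3],[4,6,2,1,3,1,2,2,1,3,0,6,0,3]] 1 9 c3Z
    (.br 0 [[0],[6],[8],[10],[12],[14]] [0,4,5,1,2,5,4,2,3,5,0] (Bt.deads [[195,0,0,0]] (Bt.ofL [(88, [4,0], (.step 0 0 [1,3,4,3,0,6,2,2,6,3,6,0,3,1,2,0,4,1,3,4,2] (.step 0 0 [0,0,2,2,4,2,0,0] (.br 0 [[2],[4],[6],[8],[0,11]] [3,0,1,3,2,4,1,4,3,1,2] (Bt.deads [[64,0,0,0]] .nil)))))]))) (by decide +kernel) (by decide +kernel)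
def c4C : List Lvl := [⟨275, [[0],[2],[4],[6]], [0,1,3,0,1,2,0,1,3,0,1,0,0,0], 364⟩,
  ⟨307, [[0,0,4],[0,4,1],[1,6,0]], [0,1,0,2,0,1,2,0,1,2,0,1,0], 243⟩,
  ⟨289, [[6,0,6,1,6],[0,6,2,2,6,0,4],[6,2,1,6,0,3,6]], [0,1,2,0,1,0,2,1,0,2,1], 90⟩,
  ⟨261, [[2,6,2,0,2,2,0,2,6,3],[0,6,2,0,2,6,1,2,4,6,3]], [0,1,0,1,1,0,1], 24⟩,
  ⟨233, [[4,0,6,3,0,0,4,3,1,1,2,6],[0,2,4,6,2,6,0,4,2,1,1,6,1]], [0,0,1,0,0], 8⟩,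
  ⟨362, [[0,0,0,4,6,0,2,0,3,1,4,2,6,3,1]], [0,0], 3⟩]
def c4M : List (List Nat) := [[0x773666dff5fe72bda33f9f5c3f7fdf0fd66cff8e8ddbf9fdfb69d9ebb7529be764adf3d6a7eef49dcccdf5f5fd2],
  [],
  [0x9040c00000220110100200040000000800010010100000000014000000000001002008000000000100280],
  [0x800000000000000008020a020000000000000000000000000000000000000200000000200000000000],
  [0x4000000000200000000000000040000000000000000000000000000000000000000000000000000000000000000],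
  []]
def c4Z : List Nat := [0xfffffffffffffffffffffffffffffffffffffffffffffffffffffffffffffffffffffffffffffffffffffffffff]
theorem c4L : LvOk G0 (finPt 364) 364 [] (mkLV c4C c4M) := M0.lvOk c4C 9 c4M (by decide +kernel) (by decide +kernel)
theorem n45 : ¬ IsConj (wprod g0 (wordAt sR 4)) (wprod g0 (wordAt sR 5)) :=
  M0.nconj c4L _ _ [[0],[0,0],[1]] [[6,0,4,3,6,0,4,0,3,1,2,4,2,4],[1,3,6,2,4,1,3,0,0,6,4,0,4,1],[1,4,6,1,2,0,4,0,6,4,1,4,1,2,1],[4,0,4,6,0,6,2,1,6,4,6,4,2,4,0]] 1 9 c4Z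
    (.br 0 [[0],[2],[4],[6]] [0,2,3,1,2,3,1,2,3,2,3,0] (Bt.deads [[2,0,0,0,2,4,0]] (Bt.ofL [(275, [], (.step 0 0 [0,0,4,0,6,0,0,3,4,1,6,3,6,4,3,0,4] (.step 0 0 [2,6,3,1,3,3,1,3,6,3,6,2,1,6,0,3,6] (.br 0 [[6,2,7],[4,3,4,3]] [0,1,0,1,0,1,0,1] (Bt.ofL [(336, [], (.step 0 0 [4,0,6,3,0,0,4,3,1,1,2,6,4,0,6,3,0,0,4,3,1,1,2,6,4,0,6,3,0,0,4,3,1,1,2,6] (.br 0 [] [] .nil)))])))))]))) (by decide +kernel) (by decide +kernel)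
theorem n46 : ¬ IsConj (wprod g0 (wordAt sR 4)) (wprod g0 (wordAt sR 6)) :=
  M0.nconj c4L _ _ [[0],[0,0],[1]] [[0,4,1,4,6,1,1,2,0,4,3,6,2,0],[1,2,0,4,0,3,6,1,4,1,1,3,0,4,3],[1,3,0,0,6,1,1,2,0],[3,0,3,0,6,2,0,6,1,4,6,4,6],[6,0,3,1,2,1,4,3,4,2,0,6,4,3],[0,3,4,3,6,2,4,6,3,0,4,2,0,4],[3,6,3,4,2,0,0,3,1,4,1,4,1,6,3],[4,6,2,1,3,1,2,2,1,3,0,6,0,3]] 1 9 c4Z
    (.br 0 [[0],[6],[8],[10],[12],[14]] [0,1,2,5,3,4,5,1,5,3,0] (Bt.deads [[14,0,0,0,1,2,2]] (Bt.ofL [(275, [], (.step 0 0 [4,1,6,2,0,2,6,1,2,4,6,3,4,1,1] (.step 0 0 [4,0,6,3,0,0,4,3,1,1,2,2,1,6,0,3,0,6,1,6] (.br 0 [[2,6],[4,9],[9,11,14]] [0,1,2,0,1,0,2] (Bt.deads [[26,0,0,0]] .nil)))))]))) (by decide +kernel) (by decide +kernel)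
def c5C : List Lvl := [⟨115, [[0],[2],[4],[6]], [0,1,2,0,1,0,3,1,2,0,1,3,2], 364⟩,
  ⟨141, [[0,6,1],[4,3,1,6],[2,4,6,3,4]], [0,1,2,0,1,2,0,1,2,0,1,2,0], 243⟩,
  ⟨184, [[4,6,4],[6,1,2,6,3,0,6],[2,0,0,2,0,3,4,3]], [0,1,0,2,0,1,2,0,2,0,1,0,2], 90⟩,
  ⟨83, [[0,6,3,6,2,6,1],[1,1,6,0,0,3,4,6,4,2],[0,4,6,0,0,3,0,2,0,2,2]], [0,1,2,0,1,0,1], 24⟩,
  ⟨233, [[0,3,4,6,0,6,4,0,3,1,3,4],[4,1,4,6,4,1,4,0,2,6,2,6]], [0,0,0,1,0], 8⟩,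
  ⟨362, [[0,4,1,4,6,1,1,2,0,4,3,6,2,0]], [0,0], 3⟩]
def c5M : List (List Nat) := [[0x7c7b45aacef73f8bffef3ff2fdb2f7b0b7bdb757d7ffff9e4d43bedb87cf626fb36ffb3fae4e1fba7f8cb9b7542],
  [],
  [0x2810000000500000000c0001000000000000000000210000010000001110000000800000800480500000219],
  [0x200000000100002000000000020000000000000000000000800000000000000000000010000000002400],
  [],
  []]
def c5Z : List Nat := [0xfffffffffffffffffffffffffffffffffffffffffffffffffffffffffffffffffffffffffffffffffffffffffff]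
theorem c5L : LvOk G0 (finPt 364) 364 [] (mkLV c5C c5M) := M0.lvOk c5C 9 c5M (by decide +kernel) (by decide +kernel)
theorem n56 : ¬ IsConj (wprod g0 (wordAt sR 5)) (wprod g0 (wordAt sR 6)) :=
  M0.nconj c5L _ _ [[0],[0,0],[1]] [[0,4,1,4,6,1,1,2,0,4,3,6,2,0],[1,2,0,4,0,3,6,1,4,1,1,3,0,4,3],[1,3,0,0,6,1,1,2,0],[3,0,3,0,6,2,0,6,1,4,6,4,6],[6,0,3,1,2,1,4,3,4,2,0,6,4,3],[0,3,4,3,6,2,4,6,3,0,4,2,0,4],[3,6,3,4,2,0,0,3,1,4,1,4,1,6,3],[4,6,2,1,3,1,2,2,1,3,0,6,0,3]] 1 9 c5Z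
    (.br 0 [[0],[4],[6],[8],[10],[12],[14]] [0,2,3,6,5,2,4,3,6,1] (Bt.deads [[14,0,0,0,0,3]] (Bt.ofL [(0, [3,6,0,3], (.step 0 0 [4,2,6,4,3,3,4,6,4,2,1,1,6,0,0,0,6,1] (.step 0 0 [6,1,2,6,3,0,6,4,2,0,2,1,4,6,1,6,4,2,1,4,6,4] (.br 0 [[2],[6,6,8],[9,13,11],[0,6,15,12]] [0,2,3,0,1,0,3] (Bt.deads [[78,0,0,0]] .nil)))))]))) (by decide +kernel) (by decide +kernel)
theorem o3 : ∀ i : Fin 7, orderOf (wprod g0 (wordAt sR i)) = 3 := fun i => M0.ordN _ (by revert i; decide +kernel)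
theorem re : ∀ i : Fin 7, IsConj (wprod g0 (wordAt sR i)) (wprod g0 (wordAt sR i) ^ 2) := fun i => by
  have := M0.conj (wordAt [[6,4,0,6,2,4,3,6,1,4,6],[1,2,0,0,6,1,3,0,6,1,2,0,4,0,4],[6,0,4,1,1,6,1,1,4,0,0,4,0,2,0],[3,3,6,3,0,4,6,3,1,4,0,2,4,2],[3,4,6,1,6,3,1,3,4,1,2,6,0,4,0],[0,0,4,3,6,4,2,1,1,3,0,2,1,2,2,6],[2,0,2,4,0,3,6,3,4,6,0,3,4]] i) (a := wordAt sR i) (b := powA (wordAt sR i) 2 []) (by revert i; decide +kernel)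
  rwa [wprod_powA, wprod_nil, mul_one] at this
theorem nc : ∀ i j : Fin 7, i < j → ¬ IsConj (wprod g0 (wordAt sR i)) (wprod g0 (wordAt sR j)) := by
  intro i j h
  fin_cases i <;> fin_cases j <;> first | exact absurd h (by decide) | skip
  exacts [n01, n02, n03, n04, n05, n06, n12, n13, n14, n15, n16, n23, n24, n25, n26, n34, n35, n36, n45, n46, n56]
theorem al (y : G0) (hy : y ^ 3 = 1) (h1 : y ≠ 1) : ∃ i : Fin 7, IsConj y (wprod g0 (wordAt sR i)) := by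
  obtain ⟨r, h, e⟩ := sK y hy h1
  obtain ⟨i, rfl⟩ := (show ∀ r ∈ sR, ∃ i : Fin 7, r = wordAt sR i by decide +kernel) r h
  exact ⟨i, e⟩

end CfsgH7.O73.Cl

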